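/-
The quadratic space of plus type in dimension eight over GF(2), split along a hyperbolic pair
(`v0`, `p0`) with orthogonal complement `U6` (helper22).

* `qm`, `decomp` : coordinates `cv`, `cp`, `pu`, embedding `io`
* facts on `U6` checked by evaluation: `exists_move`, `stab_fix`, normal forms of pairs, `L0`
-/
import Cfsg.Agent.Lib.Orth.Models
import Cfsg.Agent.Lib.Orth.Spinor
import Cfsg.Agent.Lib.Orth.Simple

set_option autoImplicit false

namespace Cfsg.Agent.CoType

open Cfsg.Agent.Orth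
open QuadraticMap (polar)

/-- Indices. -/
abbrev J8 : Type := Fin 4 ⊕ Fin 4
/-- The eight-dimensional space. -/
abbrev V8 : Type := J8 → ZMod 2
/-- The six-dimensional space. -/
abbrev U6 : Type := Fin 6 → ZMod 2

/-- Vectors of `U6` by number. -/
def ofN (n : Fin 64) : U6 := fun i => if Nat.testBit n.val i.val then 1 else 0

theorem ofN_surj : Function.Surjective ofN := by
  have h : Function.Injective ofN := by
    intro a b e
    have h' : ∀ i : Fin 6, Nat.testBit a.val i.val = Nat.testBit b.val i.val := by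
      intro i
      have e' := congrFun e i
      simp only [ofN] at e'
      cases ha : Nat.testBit a.val i.val <;> cases hb : Nat.testBit b.val i.val <;> simp_all
    refine Fin.ext (Nat.eq_of_testBit_eq fun j => ?_)
    by_cases hj : j < 6
    · exact h' ⟨j, hj⟩
    · have hp : 2 ^ 6 ≤ 2 ^ j := Nat.pow_le_pow_right (by norm_num) (not_lt.1 hj)
      rw [Nat.testBit_lt_two_pow (lt_of_lt_of_le a.isLt hp),
        Nat.testBit_lt_two_pow (lt_of_lt_of_le b.isLt hp)]
  exact ((Fintype.bijective_iff_injective_and_card ofN).2 ⟨h, by simp⟩).2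

instance (priority := high) decForallU6 {P : U6 → Prop} [DecidablePred P] : Decidable (∀ u : U6, P u) :=
  decidable_of_iff (∀ n : Fin 64, P (ofN n))
    ⟨fun h u => by obtain ⟨n, rfl⟩ := ofN_surj u; exact h n, fun h n => h _⟩

instance (priority := high) decExistsU6 {P : U6 → Prop} [DecidablePred P] : Decidable (∃ u : U6, P u) :=
  decidable_of_iff (∃ n : Fin 64, P (ofN n))
    ⟨fun ⟨n, h⟩ => ⟨_, h⟩, fun ⟨u, h⟩ => by obtain ⟨n, rfl⟩ := ofN_surj u; exact ⟨n, h⟩⟩

/-- The form on `V8`. -/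
noncomputable abbrev qm : QuadraticForm (ZMod 2) V8 := quadPlus 4 (ZMod 2)

theorem qm_apply (x : V8) : qm x = x (.inl 0) * x (.inr 0) + x (.inl 1) * x (.inr 1)
    + x (.inl 2) * x (.inr 2) + x (.inl 3) * x (.inr 3) := by
  show Cfsg.quadFormPlus 4 (ZMod 2) x = _
  simp only [Cfsg.quadFormPlus, Fin.sum_univ_four]

/-- The form on `U6`. -/
def qU (a : U6) : ZMod 2 := a 0 * a 1 + a 2 * a 3 + a 4 * a 5

/-- Its polar form. -/
def bU (a b : U6) : ZMod 2 := a 0 * b 1 + a 1 * b 0 + (a 2 * b 3 + a 3 * b 2) + (a 4 * b 5 + a 5 * b 4)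

/-- Reflection in `U6`. -/
def rU (a u : U6) : U6 := u + bU a u • a

/-- The singular vector. -/
def v0 : V8 := Pi.single (.inl 0) 1
/-- Its partner. -/
def p0 : V8 := Pi.single (.inr 0) 1

/-- The coordinate at `v0`. -/
def cv (x : V8) : ZMod 2 := x (.inl 0)
/-- The coordinate at `p0`. -/
def cp (x : V8) : ZMod 2 := x (.inr 0)
/-- The component in `U6`. -/
def pu (x : V8) : U6 := ![x (.inl 1), x (.inr 1), x (.inl 2), x (.inr 2), x (.inl 3), x (.inr 3)]
/-- The embedding of `U6`. -/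
def io (u : U6) : V8 := Sum.elim ![0, u 0, u 2, u 4] ![0, u 1, u 3, u 5]

theorem cv_add (x y : V8) : cv (x + y) = cv x + cv y := rfl
theorem cp_add (x y : V8) : cp (x + y) = cp x + cp y := rfl

theorem pu_add (x y : V8) : pu (x + y) = pu x + pu y := by
  funext i; fin_cases i <;> rfl

theorem io_add (u w : U6) : io (u + w) = io u + io w := by
  funext j
  rcases j with i | i <;> fin_cases i <;> simp [io]

theorem io_zero : io 0 = 0 := by
  funext j
  rcases j with i | i <;> fin_cases i <;> simp [io]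

theorem pu_zero : pu 0 = 0 := by
  funext i; fin_cases i <;> rfl

theorem cv_io (u : U6) : cv (io u) = 0 := rfl
theorem cp_io (u : U6) : cp (io u) = 0 := rfl

theorem pu_io (u : U6) : pu (io u) = u := by
  funext i; fin_cases i <;> rfl

theorem cv_v0 : cv v0 = 1 := by simp [cv, v0]
theorem cp_v0 : cp v0 = 0 := by simp [cp, v0]
theorem pu_v0 : pu v0 = 0 := by funext i; fin_cases i <;> simp [pu, v0]
theorem cv_p0 : cv p0 = 0 := by simp [cv, p0]
theorem cp_p0 : cp p0 = 1 := by simp [cp, p0]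
theorem pu_p0 : pu p0 = 0 := by funext i; fin_cases i <;> simp [pu, p0]

theorem decomp (x : V8) : x = cv x • v0 + cp x • p0 + io (pu x) := by
  funext j
  rcases j with i | i <;> fin_cases i <;> simp [io, pu, cv, cp, v0, p0]

theorem ext3 {x y : V8} (h1 : cv x = cv y) (h2 : cp x = cp y) (h3 : pu x = pu y) : x = y := by
  rw [decomp x, decomp y, h1, h2, h3]

theorem qm_eq (x : V8) : qm x = cv x * cp x + qU (pu x) := by
  rw [qm_apply]; simp [qU, cv, cp, pu]; ring

theorem qU_add (a b : U6) : qU (a + b) = qU a + qU b + bU a b := by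
  simp [qU, bU]; ring

theorem polar_eq (x y : V8) :
    polar ⇑qm x y = cv x * cp y + cp x * cv y + bU (pu x) (pu y) := by
  rw [polar, qm_eq, qm_eq, qm_eq, cv_add, cp_add, pu_add, qU_add]
  ring

theorem bU_comm (a b : U6) : bU a b = bU b a := by simp [bU]; ring
theorem bU_self (a : U6) : bU a a = 0 := by
  have h : ∀ s t : ZMod 2, s * t + t * s = 0 := by decide
  simp [bU, h]

theorem bU_add_left (a b c : U6) : bU (a + b) c = bU a c + bU b c := by simp [bU]; ring
theorem bU_add_right (a b c : U6) : bU a (b + c) = bU a b + bU a c := by simp [bU]; ring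
theorem bU_zero_left (a : U6) : bU 0 a = 0 := by simp [bU]
theorem bU_zero_right (a : U6) : bU a 0 = 0 := by simp [bU]
theorem bU_smul_left (c : ZMod 2) (a b : U6) : bU (c • a) b = c * bU a b := by simp [bU]; ring
theorem bU_smul_right (c : ZMod 2) (a b : U6) : bU a (c • b) = c * bU a b := by simp [bU]; ring
theorem qU_zero : qU 0 = 0 := by simp [qU]

theorem qm_v0 : qm v0 = 0 := by rw [qm_eq, cp_v0, pu_v0, qU_zero, mul_zero, add_zero]
theorem qm_io (u : U6) : qm (io u) = qU u := by rw [qm_eq, cv_io, pu_io, zero_mul, zero_add]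
theorem polar_io (u : U6) (x : V8) : polar ⇑qm (io u) x = bU u (pu x) := by
  rw [polar_eq, cv_io, cp_io, pu_io]; ring
theorem polar_v0 (x : V8) : polar ⇑qm v0 x = cp x := by
  rw [polar_eq, cv_v0, cp_v0, pu_v0, bU_zero_left]; ring

theorem v0_ne : v0 ≠ 0 := fun h => one_ne_zero (by rw [← cv_v0, h]; rfl : (1 : ZMod 2) = 0)

/-- Nondegeneracy of `bU`. -/
theorem bU_nd : ∀ a : U6, (∀ b : U6, bU a b = 0) → a = 0 := by decide +kernel

theorem bU_rU (a u w : U6) : bU (rU a u) (rU a w) = bU u w := by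
  simp only [rU, bU_add_left, bU_add_right, bU_smul_left, bU_smul_right, bU_self, bU_comm u a,
    mul_zero, add_zero]
  have h : ∀ s t r : ZMod 2, r + t * s + s * t = r := by decide
  exact h _ _ _

theorem rU_rU (a u : U6) : rU a (rU a u) = u := by
  simp only [rU, bU_add_right, bU_smul_right, bU_self, mul_zero, add_zero]
  rw [add_assoc, ZModModule.add_self, add_zero]

theorem qU_rU {a : U6} (ha : qU a = 1) (u : U6) : qU (rU a u) = qU u := by
  have h : ∀ c : ZMod 2, qU (c • a) = c := by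
    intro c
    have : c = 0 ∨ c = 1 := by revert c; decide
    rcases this with rfl | rfl <;> simp [ha, qU_zero]
  rw [rU, qU_add, h, bU_smul_right, bU_comm u a]
  have h' : ∀ s r : ZMod 2, r + s + s * s = r := by decide
  exact h' _ _

theorem rU_add (a u w : U6) : rU a (u + w) = rU a u + rU a w := by
  simp only [rU, bU_add_right, add_smul]
  abel

theorem rU_zero (a : U6) : rU a 0 = 0 := by simp [rU, bU_zero_right]

/-- Singular points are moved off their orthogonal. -/
theorem exists_move : ∀ e : U6, e ≠ 0 → qU e = 0 →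
    ∃ a : U6, qU a = 1 ∧ ∃ b : U6, qU b = 1 ∧ bU e (rU a (rU b e)) = 1 := by
  decide +kernel

/-- The fixed space of the stabilizer of a nonsingular vector. -/
theorem stab_fix (x f : U6) (hx : qU x = 1)
    (h : ∀ a b : U6, qU a = 1 → qU b = 1 → rU a (rU b x) = x → rU a (rU b f) = f) : f = 0 ∨ f = x := by
  have key : ∀ x : U6, qU x = 1 → ∀ f : U6, f = 0 ∨ f = x ∨
      ∃ b : U6, qU b = 1 ∧ bU b x = 0 ∧ ∃ a : U6, qU a = 1 ∧ bU a x = 0 ∧ rU a (rU b f) ≠ f := by
    decide +kernel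
  rcases key x hx f with e | e | ⟨b, hb, hbx, a, ha, hax, hf⟩
  · exact Or.inl e
  · exact Or.inr e
  · have hfix : rU a (rU b x) = x := by simp [rU, hbx, hax]
    exact absurd (h a b ha hb hfix) hf

/-- The standard vectors of the pair with product one. -/
def W0 : U6 := ![1, 1, 0, 0, 0, 0]
/-- Its partner. -/
def A0 : U6 := ![0, 1, 1, 1, 0, 0]
/-- Basis vectors. -/
def E0 : U6 := ![1, 0, 0, 0, 0, 0]
/-- Basis vectors. -/
def E1 : U6 := ![0, 1, 0, 0, 0, 0]
/-- Basis vectors. -/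
def E2 : U6 := ![0, 0, 1, 0, 0, 0]
/-- Basis vectors. -/
def E3 : U6 := ![0, 0, 0, 1, 0, 0]
/-- Basis vectors. -/
def E4 : U6 := ![0, 0, 0, 0, 1, 0]
/-- Basis vectors. -/
def E5 : U6 := ![0, 0, 0, 0, 0, 1]

/-- The standard transformation with totally singular commutator space `⟨E0, E2⟩`. -/
def L0 (t : U6) : U6 := t + bU E2 t • E0 + bU E0 t • E2

theorem decomp6 (t : U6) :
    t = t 0 • E0 + t 1 • E1 + t 2 • E2 + t 3 • E3 + t 4 • E4 + t 5 • E5 := by
  funext i; fin_cases i <;> simp [E0, E1, E2, E3, E4, E5]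

theorem qU_W0 : qU W0 = 1 := by decide
theorem qU_A0 : qU A0 = 1 := by decide
theorem W0_ne : W0 ≠ 0 := by decide

theorem exists_to_w0 : ∀ x : U6, qU x = 1 →
    ∃ a : U6, qU a = 1 ∧ ∃ b : U6, qU b = 1 ∧ rU a (rU b x) = W0 := by
  decide +kernel

theorem exists_to_a0 : ∀ A : U6, qU A = 1 → bU A W0 = 1 →
    ∃ a : U6, qU a = 1 ∧ ∃ b : U6, qU b = 1 ∧ rU a (rU b W0) = W0 ∧
      (rU a (rU b A) = A0 ∨ rU a (rU b (A + W0)) = A0) := by
  decide +kernel

theorem exists_to_e2 : ∀ x : U6, x ≠ 0 → qU x = 0 →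
    ∃ a : U6, qU a = 1 ∧ ∃ b : U6, qU b = 1 ∧ rU a (rU b x) = E2 := by
  decide +kernel

theorem exists_to_e0 : ∀ x : U6, x ≠ 0 → x ≠ E2 → qU x = 0 → bU x E2 = 0 →
    ∃ a : U6, qU a = 1 ∧ ∃ b : U6, qU b = 1 ∧ rU a (rU b E2) = E2 ∧
      (rU a (rU b x) = E0 ∨ rU a (rU b x) = E0 + E2) := by
  decide +kernel

theorem exists_flip_b : ∃ a : U6, qU a = 1 ∧ ∃ b : U6, qU b = 1 ∧ rU a (rU b W0) = W0 ∧
    rU a (rU b (A0 + W0)) = A0 := by
  decide +kernel

theorem exists_flip_c : ∃ a : U6, qU a = 1 ∧ ∃ b : U6, qU b = 1 ∧ rU a (rU b E2) = E2 ∧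
    rU a (rU b (E0 + E2)) = E0 := by
  decide +kernel

theorem good_qm : Good qm :=
  Good.of_card (quadPlus_nondeg 4) (Or.inr (by simp))

theorem nd_qm : qm.polarBilin.Nondegenerate := good_qm.nd

theorem refl_io_ap (a : U6) (ha : qU a = 1) (x : V8) :
    ap (refl qm (io a)) x = x + bU a (pu x) • io a := by
  rw [refl_ap, qm_io, ha, inv_one, one_mul, polar_io, sub_eq_add_neg]
  congr 1
  exact ZModModule.neg_eq_self _

theorem pu_smul (c : ZMod 2) (x : V8) : pu (c • x) = c • pu x := by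
  funext i; fin_cases i <;> rfl

theorem pu_refl (a : U6) (ha : qU a = 1) (x : V8) :
    pu (ap (refl qm (io a)) x) = rU a (pu x) := by
  rw [refl_io_ap a ha, pu_add, pu_smul, pu_io]; rfl

theorem refl_fix (a : U6) (ha : qU a = 1) {x : V8} (hx : pu x = 0) :
    ap (refl qm (io a)) x = x := by
  rw [refl_io_ap a ha, hx, bU_zero_right, zero_smul, add_zero]

/-- The pair product `r_a r_b` lies in `Ω`. -/
theorem refl_mul_refl_mem {x y : V8} (hx : qm x ≠ 0) (hy : qm y ≠ 0) :
    refl qm x * refl qm y ∈ Cfsg.Omega (ZMod 2) ⇑qm := by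
  rw [mem_omega_iff good_qm, dick_mul good_qm, dick_refl good_qm.nd hx, dick_refl good_qm.nd hy,
    spin_eq_one_of_two good_qm (by decide)]
  exact ⟨by norm_num, rfl⟩

theorem refl_not_mem {x : V8} (hx : qm x ≠ 0) : refl qm x ∉ Cfsg.Omega (ZMod 2) ⇑qm := by
  rw [mem_omega_iff good_qm, dick_refl good_qm.nd hx]
  intro h
  norm_num at h

theorem v0_pair : HPair qm p0 v0 := by
  refine ⟨?_, qm_v0, ?_⟩
  · rw [qm_eq, cv_p0, pu_p0, qU_zero, zero_mul, add_zero]
  · rw [pl_comm, polar_v0, cp_p0]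

/-- `Ω` moves every nonzero singular vector to `v0`. -/
theorem exists_omega_to_v0 {x : V8} (hx0 : x ≠ 0) (hx : qm x = 0) :
    ∃ g ∈ Cfsg.Omega (ZMod 2) ⇑qm, ap g x = v0 := by
  have hn : 3 ≤ Fintype.card J8 := by simp
  obtain ⟨g, hg, c, hc, hgv⟩ := v0_pair.exists_move_singular nd_qm hn hx0 hx
  refine ⟨g, ((omega_eq_eichGen good_qm (by simp) (Or.inr (by simp))).ge) (eichPair_le p0 v0 hg), ?_⟩
  have hc1 : c = 1 := by
    have : ∀ t : ZMod 2, t ≠ 0 → t = 1 := by decide
    exact this c hc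
  obtain rfl := hc1
  rw [one_smul] at hgv
  exact hgv

end Cfsg.Agent.CoType
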