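/-
Coordinates for an involution `z` whose centraliser is an extension of an extraspecial group of
order `2^9` by `Ω⁺₈(2)` (helper22).

* `Co` : the radical, its coordinates in `V8`, the action, with image exactly `Ω`
* `exists_co` : existence from the hypotheses of the statements
* `Co.twist`, `Co.exists_normalised` : coordinates sending a given singular vector to `v0`
-/
import Cfsg.Agent.Lib.CoType.Space
import Cfsg.Agent.Lib.LargeExtraspecial.Quotient
import Cfsg.Agent.Lib.LargeExtraspecial.OutForm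
import Cfsg.Agent.Lib.LargeExtraspecial.Simple
import Cfsg.Agent.Lib.Forms.Count
import Cfsg.Agent.S0287

set_option autoImplicit false
open scoped commutatorElement

namespace Cfsg.Agent.CoType

open Cfsg.Agent.Orth Cfsg.Agent.LargeExtraspecial
open QuadraticMap (polar)

variable {G : Type*} [Group G]

/-- `z` to a power in GF(2). -/
def pw (z : G) (e : ZMod 2) : G := if e = 0 then 1 else z

@[simp] theorem pw_zero (z : G) : pw z 0 = 1 := if_pos rfl
@[simp] theorem pw_one (z : G) : pw z 1 = z := if_neg one_ne_zero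

theorem pw_add {z : G} (hz : z * z = 1) (a b : ZMod 2) : pw z (a + b) = pw z a * pw z b := by
  have two : ∀ t : ZMod 2, t = 0 ∨ t = 1 := by decide
  rcases two a with rfl | rfl <;> rcases two b with rfl | rfl <;>
    simp [hz, show (1 : ZMod 2) + 1 = 0 by decide]

theorem pw_inj {z : G} (hz : z ≠ 1) {a b : ZMod 2} (h : pw z a = pw z b) : a = b := by
  have two : ∀ t : ZMod 2, t = 0 ∨ t = 1 := by decide
  rcases two a with rfl | rfl <;> rcases two b with rfl | rfl <;> simp [hz, hz.symm] at h ⊢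

theorem pw_comm {z : G} (x : G) (h : x * z = z * x) (a : ZMod 2) : x * pw z a = pw z a * x := by
  rw [pw]; split <;> simp [h]

/-- The data at `z`. -/
structure Co (G : Type*) [Group G] where
  z : G
  Q : Subgroup G
  data : Data Q z
  card_Q : Nat.card Q = 2 ^ 9
  c : G → V8
  ρ : G → IsoGrp qm
  c_mul : ∀ x ∈ Q, ∀ y ∈ Q, c (x * y) = c x + c y
  c_ker : ∀ x ∈ Q, c x = 0 → x = 1 ∨ x = z
  c_surj : ∀ w, ∃ x ∈ Q, c x = w
  sq : ∀ x ∈ Q, x * x = pw z (qm (c x))
  ρ_mul : ∀ g h, g * z = z * g → h * z = z * h → ρ (g * h) = ρ g * ρ h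
  ρ_conj : ∀ g, g * z = z * g → ∀ x ∈ Q, c (g * x * g⁻¹) = ap (ρ g) (c x)
  ρ_ker : ∀ g, g * z = z * g → (ρ g = 1 ↔ g ∈ Q)
  ρ_mem : ∀ g, g * z = z * g → ρ g ∈ Cfsg.Omega (ZMod 2) ⇑qm
  ρ_surj : ∀ ω ∈ Cfsg.Omega (ZMod 2) ⇑qm, ∃ g, g * z = z * g ∧ ρ g = ω
  wc : ∃ h : G, h * z * h⁻¹ ∈ Q ∧ h * z * h⁻¹ ≠ z

theorem card_iso : Nat.card (IsoGrp qm) = 348364800 := by
  have h := Cfsg.Agent.S0287.result (F := ZMod 2) (q := 2) (ZMod.card 2) 4 (by norm_num)
  show Nat.card ↥(Cfsg.isometryGroup (ZMod 2) (Cfsg.quadFormPlus 4 (ZMod 2))) = _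
  rw [h]
  norm_num [Finset.prod_range_succ]

theorem index_omega : (Cfsg.Omega (ZMod 2) ⇑qm).index = 2 :=
  omega_index_two good_qm (by simp) rfl

theorem card_omega : Nat.card ↥(Cfsg.Omega (ZMod 2) ⇑qm) = 174182400 := by
  have h := (Cfsg.Omega (ZMod 2) ⇑qm).card_mul_index
  rw [index_omega] at h
  rw [show Nat.card (IsoGrp qm) = 348364800 from card_iso] at h
  omega

theorem omega_le_of_index_two {H : Type*} [Group H] (K : Subgroup H) (hK : K.index = 2) :
    commutator H ≤ K := by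
  haveI := Subgroup.normal_of_index_eq_two hK
  refine Subgroup.Normal.quotient_commutative_iff_commutator_le.mp ⟨⟨fun a b => ?_⟩⟩
  haveI : Fact (Nat.Prime 2) := ⟨Nat.prime_two⟩
  haveI : IsCyclic (H ⧸ K) := isCyclic_of_prime_card (by rw [← Subgroup.index_eq_card, hK])
  exact IsCyclic.commGroup.mul_comm a b

theorem exists_co [Finite G] (z : G) (hz : orderOf z = 2) (Qc : Subgroup (Subgroup.centralizer ({z} : Set G)))
    [Qc.Normal] (hF : Cfsg.generalizedFittingSubgroup (Subgroup.centralizer ({z} : Set G)) = Qc)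
    (hQ : Cfsg.IsExtraspecial 2 Qc) (hcard : Nat.card Qc = 2 ^ 9)
    (e : (Subgroup.centralizer ({z} : Set G)) ⧸ Qc ≃*
      Cfsg.Omega (ZMod 2) (Cfsg.quadFormPlus 4 (ZMod 2)))
    (hnwc : ∃ g : G, (∃ hq : g * z * g⁻¹ ∈ Subgroup.centralizer ({z} : Set G),
      (⟨g * z * g⁻¹, hq⟩ : Subgroup.centralizer ({z} : Set G)) ∈ Qc) ∧ g * z * g⁻¹ ≠ z) :
    ∃ T : Co G, T.z = z ∧ T.Q = Qc.map (Subgroup.centralizer ({z} : Set G)).subtype := by
  classical
  haveI : Fact (Nat.Prime 2) := ⟨Nat.prime_two⟩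
  have memC : ∀ x, x ∈ Subgroup.centralizer ({z} : Set G) ↔ x * z = z * x := fun x =>
    Subgroup.mem_centralizer_singleton_iff
  set Q : Subgroup G := Qc.map (Subgroup.centralizer ({z} : Set G)).subtype with hQdef
  have hQex : Cfsg.IsExtraspecial 2 ↥Q :=
    isExtraspecial_congr (Qc.equivMapOfInjective (Subgroup.centralizer ({z} : Set G)).subtype (Subgroup.centralizer ({z} : Set G)).subtype_injective) hQ
  obtain ⟨D, -⟩ := Data.of_generalizedFitting hz (Q := Q) (by rw [hF]) hQex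
  haveI : Fact (Cfsg.IsExtraspecial 2 ↥Qc) := ⟨hQ⟩
  have hfr : Module.finrank (ZMod 2) (OutForm.Vm ↥Qc) = 8 := OutForm.finrank_Vm (n := 4) hcard
  -- the action
  let act : ↥(Subgroup.centralizer ({z} : Set G)) →* Forms.preservingFun (F := ZMod 2) (V := OutForm.Vm ↥Qc) (OutForm.qf ↥Qc) :=
    (OutForm.act ↥Qc).comp MulAut.conjNormal
  have hker : act.ker = Qc := by
    ext g
    rw [MonoidHom.mem_ker]
    constructor
    · intro h
      have h' : MulAut.conjNormal g ∈ Cfsg.Inn ↥Qc := by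
        rw [← OutForm.ker_eq, MonoidHom.mem_ker]; exact h
      obtain ⟨q, hq⟩ := h'
      have hcen : ((q : ↥(Subgroup.centralizer ({z} : Set G)))⁻¹ * g) ∈ Subgroup.centralizer (Qc : Set ↥(Subgroup.centralizer ({z} : Set G))) := by
        refine Subgroup.mem_centralizer_iff.mpr fun x hx => ?_
        have h1 := congrArg (fun φ : MulAut ↥Qc => ((φ ⟨x, hx⟩ : ↥Qc) : ↥(Subgroup.centralizer ({z} : Set G)))) hq
        simp only [MulAut.conjNormal_apply, MulAut.conj_apply, Subgroup.coe_mul, Subgroup.coe_inv] at h1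
        calc x * ((q : ↥(Subgroup.centralizer ({z} : Set G)))⁻¹ * g) = (q : ↥(Subgroup.centralizer ({z} : Set G)))⁻¹ * ((q : ↥(Subgroup.centralizer ({z} : Set G))) * x * (q : ↥(Subgroup.centralizer ({z} : Set G)))⁻¹) * g := by group
          _ = (q : ↥(Subgroup.centralizer ({z} : Set G)))⁻¹ * (g * x * g⁻¹) * g := by rw [h1]
          _ = _ := by group
      have h2 := Symplectic.centralizer_generalizedFitting_le ↥(Subgroup.centralizer ({z} : Set G)) (by rw [hF]; exact hcen)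
      rw [hF] at h2
      simpa using mul_mem q.2 h2
    · intro h
      refine (OutForm.inn_le_ker : Cfsg.Inn ↥Qc ≤ _) ⟨⟨g, h⟩, MulEquiv.ext fun x => Subtype.ext ?_⟩
      simp [MulAut.conjNormal_apply]
  have hrange : Nat.card act.range = 174182400 := by
    rw [← Subgroup.index_ker, hker, Subgroup.index_eq_card, Nat.card_congr e.toEquiv]
    exact card_omega
  -- the type
  obtain ⟨L, hL⟩ : ∃ L : V8 ≃ₗ[ZMod 2] OutForm.Vm ↥Qc, ∀ v, OutForm.qf ↥Qc (L v) = qm v := by
    rcases Forms.classify (OutForm.qf ↥Qc) OutForm.qf_nondegenerate with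
      ⟨m, L, hL⟩ | ⟨m, a, b, L, hab, hL⟩ | ⟨m, c, L, -, h2, -⟩
    · have hm : m = 4 := by
        have h := L.finrank_eq
        rw [hfr, Module.finrank_fintype_fun_eq_card, Fintype.card_sum, Fintype.card_fin] at h
        omega
      subst hm
      exact ⟨L, fun v => by rw [hL, Forms.qfPlus_eq]; rfl⟩
    · exfalso
      have hm : m = 3 := by
        have h := L.finrank_eq
        rw [hfr, Module.finrank_fintype_fun_eq_card, Fintype.card_sum, Fintype.card_sum, Fintype.card_fin,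
          Fintype.card_fin] at h
        omega
      subst hm
      have h1 := Subgroup.card_subgroup_dvd_card act.range
      rw [hrange, ← Nat.card_congr (Forms.preservingFunCongr (⇑(Forms.qfMinus 3 (ZMod 2) a b))
        (⇑(OutForm.qf ↥Qc)) L 1 one_ne_zero (fun v => by rw [one_mul]; exact hL v)).toEquiv,
        Forms.card_preservingFun_qfMinus hab] at h1
      norm_num [Finset.prod_range_succ] at h1
    · exact absurd rfl h2
  let ρh : ↥(Subgroup.centralizer ({z} : Set G)) →* IsoGrp qm :=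
    ((Forms.isometryGroupEquiv (⇑qm)).symm.toMonoidHom).comp
      ((Forms.preservingFunCongr (⇑(OutForm.qf ↥Qc)) (⇑qm) L.symm 1 one_ne_zero (fun v => by
        rw [one_mul, ← hL (L.symm v), LinearEquiv.apply_symm_apply])).toMonoidHom.comp act)
  have hρap : ∀ (g : ↥(Subgroup.centralizer ({z} : Set G))) (w : V8), ap (ρh g) w = L.symm ((act g).1 (L w)) := by
    intro g w
    rw [ap_apply, ← Forms.isometryGroupEquiv_apply (⇑qm) (ρh g) w]
    simp [ρh, Forms.preservingFunCongr]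
  have hρker : ρh.ker = Qc := by
    rw [← hker]
    ext g
    simp [ρh, MonoidHom.mem_ker]
  have hρrange : ρh.range = Cfsg.Omega (ZMod 2) ⇑qm := by
    have hc : Nat.card ρh.range = 174182400 := by
      rw [← Subgroup.index_ker, hρker, ← hker, Subgroup.index_ker, hrange]
    have hidx : ρh.range.index = 2 := by
      have h := ρh.range.card_mul_index
      rw [hc, card_iso] at h
      omega
    refine (Subgroup.eq_of_le_of_card_ge (omega_le_of_index_two _ hidx) ?_).symm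
    exact le_of_eq (hc.trans card_omega.symm)
  let c : G → V8 := fun x =>
    if h : ∃ q : ↥Qc, ((q : ↥(Subgroup.centralizer ({z} : Set G))) : G) = x then L.symm (OutForm.pr h.choose) else 0
  have hc : ∀ q : ↥Qc, c ((q : ↥(Subgroup.centralizer ({z} : Set G))) : G) = L.symm (OutForm.pr q) := by
    intro q
    have h : ∃ q' : ↥Qc, ((q' : ↥(Subgroup.centralizer ({z} : Set G))) : G) = ((q : ↥(Subgroup.centralizer ({z} : Set G))) : G) := ⟨q, rfl⟩
    simp only [c, dif_pos h]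
    rw [show h.choose = q from Subtype.ext (Subtype.ext h.choose_spec)]
  let ρ : G → IsoGrp qm := fun g => if h : g ∈ Subgroup.centralizer ({z} : Set G) then ρh ⟨g, h⟩ else 1
  have hρ : ∀ g : ↥(Subgroup.centralizer ({z} : Set G)), ρ (g : G) = ρh g := fun g => dif_pos g.2
  have hlift : ∀ x ∈ Q, ∃ q : ↥Qc, ((q : ↥(Subgroup.centralizer ({z} : Set G))) : G) = x := fun x hx => by
    obtain ⟨q, hq, rfl⟩ := hx
    exact ⟨⟨q, hq⟩, rfl⟩
  have hz2 : z * z = 1 := D.z_sq
  refine ⟨⟨z, Q, D, ?_, c, ρ, ?_, ?_, ?_, ?_, ?_, ?_, ?_, ?_, ?_, ?_⟩, rfl, rfl⟩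
  · rw [hQdef, Subgroup.card_map_of_injective (Subgroup.centralizer ({z} : Set G)).subtype_injective, hcard]
  · intro x hx y hy
    obtain ⟨a, rfl⟩ := hlift x hx
    obtain ⟨b, rfl⟩ := hlift y hy
    rw [show ((a : ↥(Subgroup.centralizer ({z} : Set G))) : G) * ((b : ↥(Subgroup.centralizer ({z} : Set G))) : G) = (((a * b : ↥Qc) : ↥(Subgroup.centralizer ({z} : Set G))) : G) from rfl, hc, hc, hc,
      OutForm.pr_mul, map_add]
  · intro x hx h0
    obtain ⟨a, rfl⟩ := hlift x hx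
    rw [hc, LinearEquiv.map_eq_zero_iff, OutForm.pr_eq_zero] at h0
    refine D.cent _ fun q hq => ?_
    obtain ⟨b, rfl⟩ := hlift q hq
    exact congrArg (fun w : ↥Qc => ((w : ↥(Subgroup.centralizer ({z} : Set G))) : G)) (Subgroup.mem_center_iff.mp h0 b)
  · intro w
    obtain ⟨a, ha⟩ := OutForm.pr_surjective (L w)
    exact ⟨((a : ↥(Subgroup.centralizer ({z} : Set G))) : G), ⟨a, a.2, rfl⟩, by rw [hc, ha, LinearEquiv.symm_apply_apply]⟩
  · intro x hx
    obtain ⟨a, rfl⟩ := hlift x hx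
    have hq : qm (c ((a : ↥(Subgroup.centralizer ({z} : Set G))) : G)) = OutForm.eps (a * a) := by
      rw [hc, ← hL, LinearEquiv.apply_symm_apply, OutForm.qf_apply]
    rcases D.sq hx with h | h
    · rw [h, hq, show a * a = 1 from Subtype.ext (Subtype.ext h), OutForm.eps_one, pw_zero]
    · have hne : a * a ≠ 1 := fun h' => D.z_ne
        (h.symm.trans (congrArg (fun w : ↥Qc => ((w : ↥(Subgroup.centralizer ({z} : Set G))) : G)) h'))
      rw [h, hq, OutForm.eps, if_neg hne, pw_one]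
  · intro g h hg hh
    have hg' := (memC g).2 hg
    have hh' := (memC h).2 hh
    rw [show g * h = ((⟨g, hg'⟩ * ⟨h, hh'⟩ : ↥(Subgroup.centralizer ({z} : Set G))) : G) from rfl, hρ, map_mul, ← hρ, ← hρ]
  · intro g hg x hx
    obtain ⟨a, rfl⟩ := hlift x hx
    have hg' := (memC g).2 hg
    rw [show ρ g = ρh ⟨g, hg'⟩ from dif_pos hg', hρap, hc, LinearEquiv.apply_symm_apply,
      show g * ((a : ↥(Subgroup.centralizer ({z} : Set G))) : G) * g⁻¹ = ((MulAut.conjNormal (⟨g, hg'⟩ : ↥(Subgroup.centralizer ({z} : Set G))) a : ↥Qc) : ↥(Subgroup.centralizer ({z} : Set G))) from by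
        simp [MulAut.conjNormal_apply], hc]
    congr 1
    exact (OutForm.actLin_pr _ a).symm
  · intro g hg
    have hg' := (memC g).2 hg
    rw [show ρ g = ρh ⟨g, hg'⟩ from dif_pos hg', ← MonoidHom.mem_ker, hρker]
    exact ⟨fun h => ⟨_, h, rfl⟩, fun ⟨q, hq, hqg⟩ => by
      rwa [show (⟨g, hg'⟩ : ↥(Subgroup.centralizer ({z} : Set G))) = q from Subtype.ext hqg.symm]⟩
  · intro g hg
    rw [show ρ g = ρh ⟨g, (memC g).2 hg⟩ from dif_pos ((memC g).2 hg), ← hρrange]
    exact ⟨_, rfl⟩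
  · intro ω hω
    rw [← hρrange] at hω
    obtain ⟨g, rfl⟩ := hω
    exact ⟨g, (memC _).1 g.2, hρ g⟩
  · obtain ⟨g, ⟨hq, hgQ⟩, hne⟩ := hnwc
    exact ⟨g, ⟨⟨_, hq⟩, hgQ, rfl⟩, hne⟩

namespace Co

variable (T : Co G)

theorem z_ne : T.z ≠ 1 := T.data.z_ne
theorem z_sq : T.z * T.z = 1 := T.data.z_sq

theorem c_one : T.c 1 = 0 := by
  have h := T.c_mul 1 (one_mem _) 1 (one_mem _)
  rw [mul_one] at h
  exact add_eq_left.mp h.symm

theorem c_z : T.c T.z = 0 := by
  obtain ⟨x, hx, hxc⟩ := T.c_surj (io W0)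
  have h := T.sq x hx
  have hq : qm (io W0) = 1 := by rw [qm_io]; decide
  rw [hxc, hq, pw_one] at h
  rw [← h, T.c_mul x hx x hx, ZModModule.add_self]

theorem c_inv {x : G} (hx : x ∈ T.Q) : T.c x⁻¹ = T.c x := by
  have h := T.c_mul x hx x⁻¹ (inv_mem hx)
  rw [mul_inv_cancel, c_one] at h
  exact (eq_neg_of_add_eq_zero_right h.symm).trans (ZModModule.neg_eq_self _)

/-- The twist by an element of `Ω`. -/
noncomputable def twist (ω : IsoGrp qm) (hω : ω ∈ Cfsg.Omega (ZMod 2) ⇑qm) : Co G where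
  z := T.z
  Q := T.Q
  data := T.data
  card_Q := T.card_Q
  c x := ap ω (T.c x)
  ρ g := ω * T.ρ g * ω⁻¹
  c_mul x hx y hy := by rw [T.c_mul x hx y hy, map_add]
  c_ker x hx h := T.c_ker x hx (ap_inj ω (by rw [h, map_zero]))
  c_surj w := by
    obtain ⟨x, hx, hxc⟩ := T.c_surj (ap ω⁻¹ w)
    exact ⟨x, hx, by rw [hxc, ap_ap_inv]⟩
  sq x hx := by rw [Q_ap]; exact T.sq x hx
  ρ_mul g h hg hh := by rw [T.ρ_mul g h hg hh]; group
  ρ_conj g hg x hx := by rw [T.ρ_conj g hg x hx, ap_mul, ap_mul, ap_inv_ap]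
  ρ_ker g hg := by rw [← T.ρ_ker g hg, mul_inv_eq_one, mul_eq_left]
  ρ_mem g hg := mul_mem (mul_mem hω (T.ρ_mem g hg)) (inv_mem hω)
  ρ_surj η hη := by
    obtain ⟨g, hg, hgρ⟩ := T.ρ_surj (ω⁻¹ * η * ω) (mul_mem (mul_mem (inv_mem hω) hη) hω)
    exact ⟨g, hg, by rw [hgρ]; group⟩
  wc := T.wc

/-- Coordinates in which a conjugate of `z` sits at `v0`. -/
theorem exists_normalised : ∃ T' : Co G, T'.z = T.z ∧ ∃ h : G, h * T'.z * h⁻¹ ∈ T'.Q ∧
    T'.c (h * T'.z * h⁻¹) = v0 := by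
  obtain ⟨h, hQ, hne⟩ := T.wc
  have h2 : h * T.z * h⁻¹ * (h * T.z * h⁻¹) = 1 := by
    calc h * T.z * h⁻¹ * (h * T.z * h⁻¹) = h * (T.z * T.z) * h⁻¹ := by group
      _ = 1 := by rw [T.z_sq]; group
  have h0 : T.c (h * T.z * h⁻¹) ≠ 0 := fun e => by
    rcases T.c_ker _ hQ e with e | e
    · exact T.z_ne (conj_eq_one_iff.mp e)
    · exact hne e
  have hq : qm (T.c (h * T.z * h⁻¹)) = 0 := pw_inj T.z_ne (by rw [← T.sq _ hQ, h2, pw_zero])
  obtain ⟨ω, hω, hωv⟩ := exists_omega_to_v0 h0 hq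
  exact ⟨T.twist ω hω, rfl, h, hQ, hωv⟩

end Co

end Cfsg.Agent.CoType
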