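/-
Self-adjoint maps with isotropic image over GF(2) and involutions of `Ω⁺₈(2)` (helper22).

* `finrank_range_ne_three`, `normal_form` : alternating case
* `finrank_res_le` : the commutator space of an involution has dimension at most four
* `exists_good` : a singular vector of the commutator space whose orthogonal has singular image
-/
import Cfsg.Agent.Lib.CoType.Space

set_option autoImplicit false

namespace Cfsg.Agent.CoType

open Cfsg.Agent.Orth
open QuadraticMap (polar)

theorem add_eq_zero_z2 {a b : ZMod 2} (h : a + b = 0) : a = b :=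
  (add_eq_zero_iff_eq_neg.mp h).trans (ZModModule.neg_eq_self _)

theorem add_eq_zero_v {a b : V8} (h : a + b = 0) : a = b :=
  (add_eq_zero_iff_eq_neg.mp h).trans (ZModModule.neg_eq_self _)

section general

variable {M : Type*} [AddCommGroup M] [Module (ZMod 2) M] [FiniteDimensional (ZMod 2) M]
variable (B : LinearMap.BilinForm (ZMod 2) M) (g : M →ₗ[ZMod 2] M)

theorem finrank_range_le (hB : B.Nondegenerate) (hiso : ∀ x y, B (g x) (g y) = 0) :
    2 * Module.finrank (ZMod 2) (LinearMap.range g) ≤ Module.finrank (ZMod 2) M := by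
  have hle : LinearMap.range g ≤ LinearMap.BilinForm.orthogonal B (LinearMap.range g) := by
    rintro w ⟨a, rfl⟩ u ⟨b, rfl⟩
    exact hiso b a
  have h := Submodule.finrank_mono hle
  rw [LinearMap.BilinForm.finrank_orthogonal hB] at h
  have := Submodule.finrank_le (LinearMap.range g)
  omega

theorem exists_pair (hB : B.Nondegenerate) (hsym : ∀ x y, B x y = B y x)
    (hg : g ≠ 0) : ∃ x y, B x (g y) = 1 := by
  by_contra! h
  apply hg
  refine LinearMap.ext fun y => ?_
  rw [LinearMap.zero_apply]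
  refine hB.1 (g y) fun x => ?_
  have z2 : ∀ t : ZMod 2, t ≠ 1 → t = 0 := by decide
  rw [hsym]; exact z2 _ (h x y)

variable (hadj : ∀ x y, B (g x) y = B x (g y)) (hsym : ∀ x y, B x y = B y x)
  (halt : ∀ x, B x (g x) = 0)

include hadj hsym halt

theorem pair_range {x y : M} (hxy : B x (g y) = 1) :
    g x ≠ 0 ∧ g y ≠ 0 ∧ g x ≠ g y ∧ B y (g x) = 1 := by
  have hyx : B y (g x) = 1 := by rw [hsym, hadj, hxy]
  refine ⟨fun e => ?_, fun e => ?_, fun e => ?_, hyx⟩
  · rw [e, map_zero] at hyx; exact zero_ne_one hyx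
  · rw [e, map_zero] at hxy; exact zero_ne_one hxy
  · rw [← e, halt] at hxy; exact zero_ne_one hxy

theorem four_le {x y z w : M} (hxy : B x (g y) = 1) (hzw : B z (g w) = 1)
    (hzx : B z (g x) = 0) (hzy : B z (g y) = 0) (hwx : B w (g x) = 0) (hwy : B w (g y) = 0) :
    4 ≤ Module.finrank (ZMod 2) (LinearMap.range g) := by
  have hs : ∀ a b, B a (g b) = B b (g a) := fun a b => by rw [hsym a, hadj]
  have hyx : B y (g x) = 1 := (hs y x).trans hxy
  have hwz : B w (g z) = 1 := (hs w z).trans hzw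
  let f : Fin 4 → LinearMap.range g := fun i => ⟨g (![x, y, z, w] i), LinearMap.mem_range_self _ _⟩
  have hli : LinearIndependent (ZMod 2) f := by
    rw [Fintype.linearIndependent_iff]
    intro c hc
    have hc' : c 0 • g x + c 1 • g y + c 2 • g z + c 3 • g w = 0 := by
      simpa [f, Fin.sum_univ_four, Subtype.ext_iff] using hc
    have key : ∀ a, c 0 * B a (g x) + c 1 * B a (g y) + c 2 * B a (g z) + c 3 * B a (g w) = 0 := by
      intro a
      have e := congrArg (B a) hc'
      simpa [map_add, map_smul] using e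
    have e0 := key y
    have e1 := key x
    have e2 := key w
    have e3 := key z
    rw [hyx, halt, hs y z, hzy, hs y w, hwy] at e0
    rw [halt, hxy, hs x z, hzx, hs x w, hwx] at e1
    rw [hwx, hwy, hwz, halt] at e2
    rw [hzx, hzy, halt, hzw] at e3
    simp only [mul_one, mul_zero, add_zero, zero_add] at e0 e1 e2 e3
    intro i
    fin_cases i
    exacts [e0, e1, e2, e3]
  simpa using hli.fintype_card_le_finrank

/-- The shape of an alternating map of small rank. -/
theorem normal_form (hB : B.Nondegenerate) {x y : M} (hxy : B x (g y) = 1)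
    (hle : Module.finrank (ZMod 2) (LinearMap.range g) < 4) (t : M) :
    g t = B t (g y) • g x + B t (g x) • g y := by
  obtain ⟨-, -, -, hyx⟩ := pair_range B g hadj hsym halt hxy
  have z2 : ∀ s : ZMod 2, s + s = 0 := by decide
  set z := t + B t (g y) • x + B t (g x) • y with hz
  have hzx : B z (g x) = 0 := by simp [hz, halt, hyx, z2]
  have hzy : B z (g y) = 0 := by simp [hz, halt, hxy, z2]
  by_contra hne
  have hgz : g z ≠ 0 := by
    intro e
    apply hne
    rw [hz, map_add, map_add, map_smul, map_smul] at e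
    rw [add_assoc] at e
    exact (add_eq_zero_iff_eq_neg.mp e).trans (ZModModule.neg_eq_self _)
  obtain ⟨w, hw⟩ : ∃ w, B (g z) w = 1 := by
    by_contra! h
    refine hgz (hB.1 _ fun w => ?_)
    have z2 : ∀ s : ZMod 2, s ≠ 1 → s = 0 := by decide
    exact z2 _ (h w)
  rw [hadj] at hw
  set w' := w + B w (g y) • x + B w (g x) • y with hw'
  have hwx : B w' (g x) = 0 := by simp [hw', halt, hyx, z2]
  have hwy : B w' (g y) = 0 := by simp [hw', halt, hxy, z2]
  have hzw : B z (g w') = 1 := by
    rw [hw', map_add g, map_add g, map_smul, map_smul, map_add, map_add, map_smul, map_smul, hzx,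
      hzy, smul_zero, smul_zero, add_zero, add_zero, hw]
  have := four_le B g hadj hsym halt hxy hzw hzx hzy hwx hwy
  omega

theorem finrank_range_ne_three (hB : B.Nondegenerate) (hg : g ≠ 0) :
    Module.finrank (ZMod 2) (LinearMap.range g) ≠ 1 ∧
      Module.finrank (ZMod 2) (LinearMap.range g) ≠ 3 := by
  obtain ⟨x, y, hxy⟩ := exists_pair B g hB hsym hg
  obtain ⟨hx, hy, hne, -⟩ := pair_range B g hadj hsym halt hxy
  let f : Fin 2 → LinearMap.range g := fun i => ⟨g (![x, y] i), LinearMap.mem_range_self _ _⟩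
  have hli : LinearIndependent (ZMod 2) f := by
    rw [Fintype.linearIndependent_iff]
    intro c hc
    have hc' : c 0 • g x + c 1 • g y = 0 := by
      simpa [f, Fin.sum_univ_two, Subtype.ext_iff] using hc
    have e0 : c 0 = 0 := by
      have e := congrArg (B y) hc'
      simpa [halt, pair_range B g hadj hsym halt hxy] using e
    have e1 : c 1 = 0 := by
      have e := congrArg (B x) hc'
      simpa [halt, hxy] using e
    intro i
    fin_cases i
    exacts [e0, e1]
  have h2 : 2 ≤ Module.finrank (ZMod 2) (LinearMap.range g) := by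
    simpa using hli.fintype_card_le_finrank
  refine ⟨by omega, fun h3 => ?_⟩
  have hsp : LinearMap.range g ≤ Submodule.span (ZMod 2) {g x, g y} := by
    rintro _ ⟨t, rfl⟩
    rw [normal_form B g hadj hsym halt hB hxy (by omega) t, Submodule.mem_span_pair]
    exact ⟨_, _, rfl⟩
  have h4 := Submodule.finrank_mono hsp
  classical
  have h5 := finrank_span_finset_le_card (R := ZMod 2) ({g x, g y} : Finset M)
  rw [Finset.coe_insert, Finset.coe_singleton, Set.finrank, Finset.card_pair hne] at h5
  omega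

end general

section inv

variable {ρ : IsoGrp qm}

/-- The map `g + 1`. -/
noncomputable def gm (ρ : IsoGrp qm) : V8 →ₗ[ZMod 2] V8 := ap ρ + LinearMap.id

theorem gm_apply (ρ : IsoGrp qm) (x : V8) : gm ρ x = ap ρ x + x := rfl

theorem range_gm (ρ : IsoGrp qm) : LinearMap.range (gm ρ) = resSpace ρ := by
  rw [resSpace]
  congr 1
  refine LinearMap.ext fun x => ?_
  rw [gm_apply, LinearMap.sub_apply, LinearMap.id_apply, sub_eq_add_neg, ZModModule.neg_eq_self]

theorem inv_sing (x : V8) : qm (ap ρ x + x) = polar ⇑qm x (ap ρ x + x) := by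
  have h : qm (ap ρ x + x + x) = qm x := by
    rw [add_assoc, ZModModule.add_self, add_zero, Q_ap]
  rw [Q_add, pl_comm] at h
  refine add_eq_zero_z2 ?_
  linear_combination h

theorem inv_adj (h2 : ρ * ρ = 1) (x y : V8) :
    polar ⇑qm (ap ρ x + x) y = polar ⇑qm x (ap ρ y + y) := by
  have h : polar ⇑qm (ap ρ x) y = polar ⇑qm x (ap ρ y) := by
    calc polar ⇑qm (ap ρ x) y = polar ⇑qm (ap ρ (ap ρ x)) (ap ρ y) := (polar_ap ρ _ _).symm
      _ = _ := by rw [← ap_mul, h2, ap_one]
  rw [pl_add_left, pl_add_right, h]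

theorem inv_twice (h2 : ρ * ρ = 1) (x : V8) : ap ρ (ap ρ x + x) + (ap ρ x + x) = 0 := by
  rw [map_add, ← ap_mul, h2, ap_one, add_comm x, ZModModule.add_self]

theorem inv_orth (h2 : ρ * ρ = 1) (x y : V8) :
    polar ⇑qm (ap ρ x + x) (ap ρ y + y) = 0 := by
  rw [inv_adj h2, inv_twice h2]
  simp [polar]

theorem finrank_res_le (h2 : ρ * ρ = 1) : Module.finrank (ZMod 2) (resSpace ρ) ≤ 4 := by
  have h := finrank_range_le qm.polarBilin (gm ρ) nd_qm (fun x y => inv_orth h2 x y)
  have h8 : Module.finrank (ZMod 2) V8 = 8 := by simp [Module.finrank_fintype_fun_eq_card]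
  rw [h8] at h
  rw [← range_gm]
  exact Nat.le_of_mul_le_mul_left (h : 2 * _ ≤ 2 * 4) two_pos

theorem even_res (hΩ : ρ ∈ Cfsg.Omega (ZMod 2) ⇑qm) :
    Even (Module.finrank (ZMod 2) (resSpace ρ)) := by
  have h := ((mem_omega_iff good_qm ρ).1 hΩ).1
  rw [dick] at h
  exact (neg_one_pow_eq_one_iff_even (by norm_num : (-1 : ℤ) ≠ 1)).1 h

theorem exists_sing (h2 : ρ * ρ = 1) (h1 : ρ ≠ 1) (hΩ : ρ ∈ Cfsg.Omega (ZMod 2) ⇑qm) :
    ∃ x, ap ρ x + x ≠ 0 ∧ qm (ap ρ x + x) = 0 := by
  have z2 : ∀ t : ZMod 2, t = 0 ∨ t = 1 := by decide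
  obtain ⟨x1, hx1⟩ : ∃ x, ap ρ x + x ≠ 0 := by
    by_contra! h
    exact h1 (ext_ap fun x => by rw [ap_one]; exact add_eq_zero_v (h x))
  rcases z2 (qm (ap ρ x1 + x1)) with hq | hq
  · exact ⟨x1, hx1, hq⟩
  set w := ap ρ x1 + x1 with hw
  by_cases hall : ∀ x, ap ρ x + x = 0 ∨ ap ρ x + x = w
  · exfalso
    refine refl_not_mem (x := w) (by rw [hq]; exact one_ne_zero) ?_
    convert hΩ using 1
    refine ext_ap fun x => ?_
    rw [refl_ap, hq, inv_one, one_mul, sub_eq_add_neg, ZModModule.neg_eq_self]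
    rcases hall x with h | h
    · have e : polar ⇑qm w x = 0 := by
        rw [hw, inv_adj h2, h]
        simp [polar]
      rw [e, zero_smul, add_zero]
      exact (add_eq_zero_v h).symm
    · have e : polar ⇑qm w x = 1 := by
        rw [pl_comm, ← h, ← inv_sing, h, hq]
      rw [e, one_smul, ← h, add_left_comm, ZModModule.add_self, add_zero]
  · push Not at hall
    obtain ⟨x2, hx2, hx2'⟩ := hall
    rcases z2 (qm (ap ρ x2 + x2)) with hq' | hq'
    · exact ⟨x2, hx2, hq'⟩
    · refine ⟨x1 + x2, ?_, ?_⟩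
      · rw [map_add (ap ρ), add_add_add_comm, ← hw]
        exact fun h => hx2' (add_eq_zero_v h).symm
      · rw [map_add (ap ρ), add_add_add_comm, ← hw, Q_add, hq, hq', hw, inv_orth h2]
        decide

/-- A singular vector of the commutator space whose orthogonal has totally singular image. -/
theorem exists_good (h2 : ρ * ρ = 1) (h1 : ρ ≠ 1) (hΩ : ρ ∈ Cfsg.Omega (ZMod 2) ⇑qm) :
    ∃ x, ap ρ x + x ≠ 0 ∧ qm (ap ρ x + x) = 0 ∧
      ∀ t, polar ⇑qm t (ap ρ x + x) = 0 → qm (ap ρ t + t) = 0 := by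
  have z2 : ∀ t : ZMod 2, t = 0 ∨ t = 1 := by decide
  by_cases hall : ∀ t, qm (ap ρ t + t) = 0
  · obtain ⟨x, hx, hq⟩ := exists_sing h2 h1 hΩ
    exact ⟨x, hx, hq, fun t _ => hall t⟩
  let φ : Module.Dual (ZMod 2) V8 := AddMonoidHom.toZModLinearMap 2
    (AddMonoidHom.mk' (fun t => qm (ap ρ t + t)) (fun a b => by
      rw [map_add (ap ρ), add_add_add_comm, Q_add, inv_orth h2, add_zero]))
  have hφ : ∀ t, φ t = qm (ap ρ t + t) := fun _ => rfl
  set e := (LinearMap.BilinForm.toDual qm.polarBilin nd_qm).symm φ with hedef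
  have he : ∀ t, polar ⇑qm e t = qm (ap ρ t + t) := fun t => by
    rw [← hφ, hedef]
    exact LinearMap.BilinForm.apply_toDual_symm_apply (B := qm.polarBilin) (hB := nd_qm) φ t
  have hmem : e ∈ resSpace ρ := by
    by_contra hm
    obtain ⟨x, hx, hxe⟩ := exists_fix_polar_ne nd_qm hm
    apply hxe
    rw [pl_comm, he, hx, ZModModule.add_self]
    exact qm.map_zero
  rw [← range_gm] at hmem
  obtain ⟨x0, hx0⟩ := hmem
  rw [gm_apply] at hx0
  have he0 : e ≠ 0 := fun h => hall fun t => by rw [← he, h]; simp [polar]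
  refine ⟨x0, by rw [hx0]; exact he0, ?_, fun t ht => by rw [← he, ← hx0, pl_comm]; exact ht⟩
  rw [hx0]
  rcases z2 (qm e) with hq | hq
  · exact hq
  exfalso
  have hfix : ap ρ e = e := add_eq_zero_v (by rw [← hx0]; exact inv_twice h2 x0)
  have hap : ∀ t, ap (refl qm e * ρ) t + t = (ap ρ t + t) + polar ⇑qm e t • e := by
    intro t
    have hp : polar ⇑qm e (ap ρ t) = polar ⇑qm e t := by
      conv_lhs => rw [← hfix]
      rw [polar_ap]
    rw [ap_mul, refl_ap, hq, inv_one, one_mul, hp, sub_eq_add_neg, ZModModule.neg_eq_self]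
    abel
  have hcomm : ρ * refl qm e = refl qm e * ρ := by
    refine ext_ap fun t => ?_
    have hp : polar ⇑qm e (ap ρ t) = polar ⇑qm e t := by
      conv_lhs => rw [← hfix]
      rw [polar_ap]
    rw [ap_mul, ap_mul, refl_ap, refl_ap, map_sub, map_smul, hfix, hp]
  have hq0 : qm e ≠ 0 := by rw [hq]; exact one_ne_zero
  have h2' : refl qm e * ρ * (refl qm e * ρ) = 1 := by
    have hr : refl qm e * refl qm e = 1 := by
      refine ext_ap fun t => ?_
      rw [ap_mul, ap_one, refl_ap, refl_ap, hq, inv_one, one_mul, one_mul, pl_sub_right,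
        pl_smul_right, pl_self, hq]
      have h20 : (2 : ZMod 2) = 0 := by decide
      rw [h20, zero_mul, mul_zero, sub_zero, sub_sub, ← add_smul, ZModModule.add_self, zero_smul,
        sub_zero]
    calc refl qm e * ρ * (refl qm e * ρ) = refl qm e * (ρ * refl qm e) * ρ := by group
      _ = refl qm e * refl qm e * (ρ * ρ) := by rw [hcomm]; group
      _ = 1 := by rw [hr, h2, one_mul]
  have hodd : ¬ Even (Module.finrank (ZMod 2) (resSpace (refl qm e * ρ))) := by
    intro hev
    have h := dick_refl_mul nd_qm ρ hq0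
    rw [dick, hev.neg_one_pow, ((mem_omega_iff good_qm ρ).1 hΩ).1] at h
    norm_num at h
  have hle := finrank_res_le h2'
  have hne : gm (refl qm e * ρ) ≠ 0 := by
    intro h
    refine hodd ?_
    rw [← range_gm, h, LinearMap.range_zero, finrank_bot]
    exact Even.zero
  have h13 := finrank_range_ne_three qm.polarBilin (gm (refl qm e * ρ))
    (fun a b => inv_adj h2' a b) (fun a b => pl_comm (Q := qm) a b) (fun a => by
      show polar ⇑qm a (ap (refl qm e * ρ) a + a) = 0
      rw [← inv_sing, hap, Q_add, Q_smul, hq, pl_smul_right, he, inv_adj h2, hfix,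
        ZModModule.add_self]
      simp [polar]
      have h : ∀ s : ZMod 2, s + s * s = 0 := by decide
      exact h _) nd_qm hne
  rw [← range_gm] at hodd hle
  obtain ⟨k, hk⟩ := Nat.not_even_iff_odd.1 hodd
  obtain ⟨h1', h3'⟩ := h13
  rcases k with _ | _ | k
  · exact h1' hk
  · exact h3' hk
  · have : 5 ≤ 2 * (k + 1 + 1) + 1 := by omega
    exact absurd (hk.symm.trans_le hle) (by omega)

end inv

end Cfsg.Agent.CoType
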