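/-
Involutions of the centraliser of `z` outside the radical (helper22).

* `lm` : the action on the middle layer; `Side` : no commutator with a fixed element leaves `⟨z⟩`
* `classify_AB`, `classify_thin`, `classify` : up to conjugacy in `C(z)` such an involution lies in
  `P`, has one of the two standard shapes `TypP`, or acts on the middle layer as `L0`
* `typ_conj`, `exists_typ` : each standard shape forms one nonempty class
-/
import Cfsg.Agent.Lib.CoType.Comm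
import Cfsg.Agent.Lib.CoType.Linear

set_option autoImplicit false
open scoped commutatorElement

namespace Cfsg.Agent.CoType

open Cfsg.Agent.Orth Cfsg.Agent.LargeExtraspecial Cfsg.Agent.LargeExtraspecial.Cfg
open QuadraticMap (polar)

theorem qU_B : qU A0 + bU A0 W0 = 0 ∧ qU W0 + bU A0 W0 = 0 := by decide
theorem qU_C : qU E0 + bU E0 E2 = 0 ∧ qU E2 + bU E0 E2 = 0 := by decide
theorem E2_ne : E2 ≠ 0 := by decide
theorem sep_B : ∀ i j : ZMod 2, ∃ s : U6, bU s (A0 + W0) = i ∧ bU s W0 = j := by decide +kernel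
theorem sep_C : ∀ i j : ZMod 2, ∃ s : U6, bU s (E0 + E2) = i ∧ bU s E2 = j := by decide +kernel

/-- A pair of parameters of an involution with independent functionals. -/
structure Pair (A W : U6) : Prop where
  qA : qU A + bU A W = 0
  qW : qU W + bU A W = 0
  ne : W ≠ 0
  sep : ∀ i j : ZMod 2, ∃ s : U6, bU s (A + W) = i ∧ bU s W = j

theorem pairB : Pair A0 W0 := ⟨qU_B.1, qU_B.2, W0_ne, sep_B⟩
theorem pairC : Pair E0 E2 := ⟨qU_C.1, qU_C.2, E2_ne, sep_C⟩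

theorem smul_rU (a u : U6) (c : ZMod 2) : rU a (c • u) = c • rU a u := by
  rcases z2 c with rfl | rfl <;> simp [rU_zero]

/-- The polar form on `U6`, bilinear. -/
noncomputable def bUl : LinearMap.BilinForm (ZMod 2) U6 :=
  LinearMap.mk₂ (ZMod 2) bU bU_add_left (fun c a b => by rw [bU_smul_left, smul_eq_mul])
    bU_add_right (fun c a b => by rw [bU_smul_right, smul_eq_mul])

theorem bUl_apply (a b : U6) : bUl a b = bU a b := rfl

theorem bUl_nd : bUl.Nondegenerate :=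
  ⟨fun a h => bU_nd a h, fun a h => bU_nd a fun b => by rw [bU_comm]; exact h b⟩

theorem inv_span {ρ : IsoGrp qm} (hle : Module.finrank (ZMod 2) (resSpace ρ) ≤ 2) {x y : V8}
    (h0 : ap ρ x + x ≠ 0) (h0' : ap ρ y + y ≠ 0) (hne : ap ρ x + x ≠ ap ρ y + y) (t : V8) :
    ∃ c d : ZMod 2, c • (ap ρ x + x) + d • (ap ρ y + y) = ap ρ t + t := by
  have hW : ∀ u : V8, ap ρ u + u ∈ resSpace ρ := fun u => by
    rw [← range_gm]; exact ⟨u, rfl⟩
  have hli : LinearIndependent (ZMod 2) ![ap ρ x + x, ap ρ y + y] := by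
    rw [LinearIndependent.pair_iff]
    intro s s' hs
    rcases z2 s with rfl | rfl <;> rcases z2 s' with rfl | rfl <;> simp at hs ⊢
    · exact h0' hs
    · exact h0 hs
    · exact hne (add_eq_zero_v hs)
  have hsp := finrank_span_eq_card hli
  rw [Fintype.card_fin] at hsp
  have hspan : Submodule.span (ZMod 2) (Set.range ![ap ρ x + x, ap ρ y + y]) ≤ resSpace ρ := by
    rw [Submodule.span_le]
    rintro _ ⟨i, rfl⟩
    fin_cases i
    exacts [hW x, hW y]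
  have heq := Submodule.eq_of_le_of_finrank_le hspan (hle.trans (le_of_eq hsp.symm))
  have hm : ap ρ t + t ∈ Submodule.span (ZMod 2) (Set.range ![ap ρ x + x, ap ρ y + y]) := by
    rw [heq]; exact hW t
  rw [Matrix.range_cons_cons_empty] at hm
  exact Submodule.mem_span_pair.1 hm

variable {G : Type*} [Group G]

theorem conj_invol {g u : G} (h2 : u * u = 1) : g * u * g⁻¹ * (g * u * g⁻¹) = 1 := by
  calc g * u * g⁻¹ * (g * u * g⁻¹) = g * (u * u) * g⁻¹ := by group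
    _ = 1 := by rw [h2]; group

namespace Fr

variable (F : Fr G) [Finite G]

/-- The action on the middle layer. -/
noncomputable def lm (g : G) (t : U6) : U6 := pu (ap (F.T.ρ g) (io t))

theorem lm_add (g : G) (t s : U6) : F.lm g (t + s) = F.lm g t + F.lm g s := by
  rw [lm, io_add, map_add, pu_add]; rfl

theorem lm_zero (g : G) : F.lm g 0 = 0 := by rw [lm, io_zero, map_zero, pu_zero]

theorem lm_smul (g : G) (c : ZMod 2) (t : U6) : F.lm g (c • t) = c • F.lm g t := by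
  rcases z2 c with rfl | rfl <;> simp [lm_zero]

theorem pu_ap {d : G} (hd : d ∈ F.D) {x : V8} (hx : cp x = 0) :
    pu (ap (F.T.ρ d) x) = F.lm d (pu x) := by
  conv_lhs => rw [decomp x]
  rw [hx, zero_smul, add_zero, map_add, map_smul, F.ρ_v0 hd, pu_add, pu_smul, pu_v0, smul_zero,
    zero_add]
  rfl

theorem lm_mul {d e : G} (hd : d ∈ F.D) (he : e ∈ F.D) (t : U6) :
    F.lm (d * e) t = F.lm d (F.lm e t) := by
  rw [lm, F.T.ρ_mul d e (F.mem_D.1 hd).1 (F.mem_D.1 he).1, ap_mul]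
  exact F.pu_ap hd (by rw [F.cp_ap he, cp_io])

theorem lm_one (t : U6) : F.lm 1 t = t := by rw [lm, F.T.ρ_one, ap_one, pu_io]

theorem lm_bU {d : G} (hd : d ∈ F.D) (t s : U6) : bU (F.lm d t) (F.lm d s) = bU t s := by
  have h := polar_ap (F.T.ρ d) (io t) (io s)
  rw [polar_eq, F.cp_ap hd, F.cp_ap hd, cp_io, cp_io, polar_io, pu_io, mul_zero, zero_mul,
    zero_add, zero_add] at h
  exact h

theorem lm_qU {d : G} (hd : d ∈ F.D) (t : U6) : qU (F.lm d t) = qU t := by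
  have h : qm (ap (F.T.ρ d) (io t)) = qm (io t) := Q_ap _ _
  rw [qm_eq, F.cp_ap hd, cp_io, mul_zero, zero_add, qm_io] at h
  exact h

theorem lm_inv {u : G} (hu : u ∈ F.D) (h2 : u * u = 1) (t : U6) : F.lm u (F.lm u t) = t := by
  rw [← F.lm_mul hu hu, h2, F.lm_one]

theorem lm_D {d : G} (hd : d ∈ F.D) {a b : U6} (ha : qU a = 1) (hb : qU b = 1)
    (hρ : F.T.ρ d = refl qm (io a) * refl qm (io b)) (t : U6) : F.lm d t = rU a (rU b t) := by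
  rw [lm, hρ, ap_mul, pu_refl a ha, pu_refl b hb, pu_io]

theorem lm_B {b : G} (hb : b ∈ A F.P F.z) (t : U6) : F.lm b t = t := by
  rw [lm, F.ap_B hb, cp_io, zero_smul, add_zero, pu_add, pu_smul, pu_v0, smul_zero, add_zero, pu_io]

theorem lm_A {a : G} (ha : a ∈ A F.Q F.v) (t : U6) : F.lm a t = t := by
  rw [lm, F.T.ρ_Q (mem_A.mp ha).1, ap_one, pu_io]

theorem κ_lm {x a : G} (hx : x ∈ F.D) (ha : a ∈ A F.Q F.v) :
    F.κ (x * a * x⁻¹) = F.lm x (F.κ a) := by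
  rw [κ, F.T.ρ_conj x (F.mem_D.1 hx).1 a (mem_A.mp ha).1]
  exact F.pu_ap hx (F.mem_A_iff.1 ha).2

theorem θ_mul_D {d e : G} (hd : d ∈ F.D) (he : e ∈ F.D) :
    F.θ (d * e) = F.θ d + F.lm d (F.θ e) := by
  rw [θ, F.T.ρ_mul d e (F.mem_D.1 hd).1 (F.mem_D.1 he).1, ap_mul]
  conv_lhs => rw [decomp (ap (F.T.ρ e) p0)]
  rw [F.cp_ap he, cp_p0, one_smul, map_add, map_add, map_smul, F.ρ_v0 hd, pu_add, pu_add, pu_smul,
    pu_v0, smul_zero, zero_add]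
  rfl

theorem θ_lm {x b : G} (hx : x ∈ F.D) (hb : b ∈ A F.P F.z) :
    F.θ (x * b * x⁻¹) = F.lm x (F.θ b) := by
  have hbD := F.B_le_D hb
  rw [F.θ_mul_D (mul_mem hx hbD) (inv_mem hx), F.θ_mul_D hx hbD, F.lm_mul hx hbD, F.lm_B hb]
  have h := F.θ_mul_D hx (inv_mem hx)
  rw [mul_inv_cancel, F.θ_one] at h
  calc F.θ x + F.lm x (F.θ b) + F.lm x (F.θ x⁻¹)
      = F.lm x (F.θ b) + (F.θ x + F.lm x (F.θ x⁻¹)) := by abel
    _ = F.lm x (F.θ b) := by rw [← h, add_zero]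

/-- A standard shape. -/
def TypP (A W : U6) (u : G) : Prop :=
  ∃ a ∈ Cfg.A F.Q F.v, ∃ b ∈ Cfg.A F.P F.z, u = a * b ∧ F.κ a = A ∧ F.θ b = W

/-- Commutators of fixed elements of `A` stay in `⟨z⟩`. -/
def Side (u : G) : Prop :=
  ∀ a ∈ A F.Q F.v, ⁅u, a⁆ ∈ F.Q ⊓ F.P → ∃ i, ⁅u, a⁆ = pw F.z i

/-- Commutators of fixed elements of `B` stay in `⟨v⟩`. -/
def BSide (u : G) : Prop :=
  ∀ b ∈ A F.P F.z, ⁅u, b⁆ ∈ F.Q ⊓ F.P → ∃ j, ⁅u, b⁆ = pw F.v j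

theorem conj_to_fix {u : G} (hu : u * F.z = F.z * u) (h2 : u * u = 1) {x : V8}
    (hx0 : ap (F.T.ρ u) x + x ≠ 0) (hxq : qm (ap (F.T.ρ u) x + x) = 0) :
    ∃ g, g * F.z = F.z * g ∧ g * u * g⁻¹ ∈ F.D ∧
      (∃ x', ap (F.T.ρ (g * u * g⁻¹)) x' + x' = v0) ∧
      ap (F.T.ρ g) (ap (F.T.ρ u) x + x) = v0 := by
  obtain ⟨q, hq, hqc⟩ := F.T.c_surj x
  have hq' := F.T.data.norm u hu q hq
  set v' := u * q * u⁻¹ * q⁻¹ with hv'
  have hv'Q : v' ∈ F.Q := mul_mem hq' (inv_mem hq)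
  have hv'c : F.T.c v' = ap (F.T.ρ u) x + x := by
    rw [hv', F.T.c_mul _ hq' _ (inv_mem hq), F.T.c_inv hq, F.T.ρ_conj u hu q hq, hqc]
  have hv'2 : v' * v' = 1 := by rw [F.T.sq v' hv'Q, hv'c, hxq, pw_zero]
  have hne1 : v' ≠ 1 := fun e => hx0 (by rw [← hv'c, e, F.T.c_one])
  have hnez : v' ≠ F.z := fun e => hx0 (by rw [← hv'c, e]; exact F.T.c_z)
  have hcomm : u * v' = v' * u := by
    have e : u * v' * u⁻¹ = v'⁻¹ := by
      calc u * v' * u⁻¹ = (u * u) * q * (u * u)⁻¹ * (u * q⁻¹ * u⁻¹) := by rw [hv']; group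
        _ = v'⁻¹ := by rw [h2, hv']; group
    rw [inv_eq_of_mul_eq_one_right hv'2] at e
    exact mul_inv_eq_iff_eq_mul.mp e
  obtain ⟨g, hg, hgv⟩ := F.exists_conj_v hv'Q hv'2 hne1 hnez
  have hz : g * u * g⁻¹ * F.z = F.z * (g * u * g⁻¹) :=
    ((Commute.mul_left hg hu).mul_left (Commute.inv_left hg)).eq
  refine ⟨g, hg, F.mem_D.2 ⟨hz, ?_⟩, ⟨ap (F.T.ρ g) x, ?_⟩, ?_⟩
  · rw [← hgv]
    calc g * u * g⁻¹ * (g * v' * g⁻¹) = g * (u * v') * g⁻¹ := by group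
      _ = _ := by rw [hcomm]; group
  · rw [← hqc, ← F.T.ρ_conj g hg q hq, ← F.T.ρ_conj _ hz _ (F.T.data.norm g hg q hq)]
    have hqg := F.T.data.norm g hg q hq
    have hm := F.T.data.norm _ hz _ hqg
    conv_lhs => arg 2; rw [← F.T.c_inv hqg]
    rw [← F.T.c_mul _ hm _ (inv_mem hqg)]
    rw [show g * u * g⁻¹ * (g * q * g⁻¹) * (g * u * g⁻¹)⁻¹ * (g * q * g⁻¹)⁻¹ = g * v' * g⁻¹ by
      rw [hv']; group, hgv]
    exact F.cv
  · rw [← hv'c, ← F.T.ρ_conj g hg v' hv'Q, hgv]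
    exact F.cv

/-- An element of `D` trivial on the middle layer lies in `A B`. -/
theorem mem_AB_of_fix {u : G} (hu : u ∈ F.D) (hfix : ∀ t : U6, F.lm u t = t) :
    ∃ a ∈ A F.Q F.v, ∃ b ∈ A F.P F.z, u = a * b := by
  have huz := (F.mem_D.1 hu).1
  obtain ⟨b, hb, hbθ⟩ := F.θ_surj (F.θ u)
  have hρ : F.T.ρ u = F.T.ρ b := ext_ap fun x => by
    rw [F.ap_unip hu hfix, F.ap_B hb, hbθ]
  have hbz := (mem_A.mp hb).2
  have hm : u * b⁻¹ ∈ F.Q := by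
    refine (F.T.ρ_ker _ (Commute.mul_left huz (Commute.inv_left hbz)).eq).1 ?_
    rw [F.T.ρ_mul u b⁻¹ huz (Commute.inv_left hbz).eq, F.T.ρ_inv hbz, hρ, mul_inv_cancel]
  refine ⟨u * b⁻¹, mem_A.mpr ⟨hm, ?_⟩, b, hb, by group⟩
  exact (F.mem_D.1 (mul_mem hu (inv_mem (F.B_le_D hb)))).2

theorem lm_of_thin {u : G} (hu : u ∈ F.D) (h2 : u * u = 1)
    (hle : Module.finrank (ZMod 2) (resSpace (F.T.ρ u)) ≤ 2) {x' : V8}
    (hx' : ap (F.T.ρ u) x' + x' = v0) (t : U6) : F.lm u t = t := by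
  have huz := (F.mem_D.1 hu).1
  have hρ2 : F.T.ρ u * F.T.ρ u = 1 := by rw [← F.T.ρ_mul u u huz huz, h2, F.T.ρ_one]
  have hperp : ∀ y, cp y = 0 → ap (F.T.ρ u) y + y = 0 ∨ ap (F.T.ρ u) y + y = v0 := by
    intro y hy
    by_contra! hcon
    obtain ⟨h0, hne⟩ := hcon
    have hy' : polar ⇑qm x' (ap (F.T.ρ u) y + y) = 0 := by
      rw [← inv_adj hρ2, hx', polar_v0, hy]
    have hv : polar ⇑qm x' v0 = 0 := by
      rw [← hx', ← inv_sing, hx', qm_v0]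
    have hall : ∀ t, polar ⇑qm v0 t = 0 := by
      intro t
      rw [← hx', inv_adj hρ2]
      obtain ⟨c, d, hcd⟩ := inv_span hle (x := x') (y := y)
        (by rw [hx']; exact v0_ne) h0 (by rw [hx']; exact hne.symm) t
      rw [← hcd, pl_add_right, pl_smul_right, pl_smul_right, hx', hv, hy', mul_zero, mul_zero,
        add_zero]
    have := hall p0
    rw [polar_v0, cp_p0] at this
    exact one_ne_zero this
  rcases hperp (io t) (cp_io t) with e | e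
  · rw [lm, add_eq_zero_v e, pu_io]
  · have e' : ap (F.T.ρ u) (io t) = v0 + io t := by
      rw [← e, add_assoc, ZModModule.add_self, add_zero]
    rw [lm, e', pu_add, pu_v0, pu_io, zero_add]

theorem not_image_of_side {u : G} (hu : u ∈ F.D) (hs : F.Side u) (x : V8) :
    ap (F.T.ρ u) x + x ≠ v0 := by
  intro hx
  have huz := (F.mem_D.1 hu).1
  have hcp : cp x = 0 := by
    have h := inv_sing (ρ := F.T.ρ u) x
    rw [hx, qm_v0, pl_comm, polar_v0] at h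
    exact h.symm
  obtain ⟨a, ha, hac⟩ := F.T.c_surj x
  have haA : a ∈ A F.Q F.v := F.mem_A_iff.2 ⟨ha, by rw [hac, hcp]⟩
  have hm := F.T.data.norm u huz a ha
  have hmem : ⁅u, a⁆ ∈ F.Q := by rw [commutatorElement_def]; exact mul_mem hm (inv_mem ha)
  have hc : F.T.c ⁅u, a⁆ = v0 := by
    rw [commutatorElement_def, F.T.c_mul _ hm _ (inv_mem ha), F.T.c_inv ha, F.T.ρ_conj u huz a ha,
      hac, hx]
  have hE : ⁅u, a⁆ ∈ F.Q ⊓ F.P := by
    rcases F.T.c_eq F.hv hmem (by rw [hc]; exact F.cv) with e | e <;> rw [e]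
    exacts [F.cfg.s_mem_E, mul_mem F.cfg.s_mem_E F.cfg.z_mem_E]
  obtain ⟨i, hi⟩ := hs a haA hE
  apply v0_ne
  rw [← hc, hi]
  rcases z2 i with rfl | rfl <;> simp [F.T.c_one, F.T.c_z]

/-- An involution with trivial side has commutator space of dimension at most two. -/
theorem thin_of_side {u : G} (hu : u ∈ F.D) (h2 : u * u = 1) (hs : F.Side u) :
    Module.finrank (ZMod 2) (resSpace (F.T.ρ u)) ≤ 2 := by
  have huz := (F.mem_D.1 hu).1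
  have hρ2 : F.T.ρ u * F.T.ρ u = 1 := by rw [← F.T.ρ_mul u u huz huz, h2, F.T.ρ_one]
  have hv0 : ∀ t, polar ⇑qm v0 (ap (F.T.ρ u) t + t) = 0 := fun t => by
    rw [← inv_adj hρ2, F.ρ_v0 hu, ZModModule.add_self]
    simp [polar]
  set R := LinearMap.range (gm (F.T.ρ u)) with hR
  have hnv : v0 ∉ R := by
    rintro ⟨x, hx⟩
    exact F.not_image_of_side hu hs x hx
  have hle : R ⊔ (ZMod 2 ∙ v0) ≤ LinearMap.BilinForm.orthogonal qm.polarBilin (R ⊔ (ZMod 2 ∙ v0)) := by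
    intro w hw w' hw'
    obtain ⟨_, ⟨a, rfl⟩, _, hs1, rfl⟩ := Submodule.mem_sup.1 hw
    obtain ⟨_, ⟨b, rfl⟩, _, hs2, rfl⟩ := Submodule.mem_sup.1 hw'
    obtain ⟨i, rfl⟩ := Submodule.mem_span_singleton.1 hs1
    obtain ⟨j, rfl⟩ := Submodule.mem_span_singleton.1 hs2
    show polar ⇑qm _ _ = 0
    rw [gm_apply, gm_apply]
    have h1 := inv_orth hρ2 b a
    have h2a := hv0 a
    have h2b := hv0 b
    generalize ap (F.T.ρ u) a + a = p at h1 h2a ⊢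
    generalize ap (F.T.ρ u) b + b = q at h1 h2b ⊢
    rw [pl_add_left, pl_add_right, pl_add_right, h1, pl_smul_left, pl_smul_left, pl_smul_right,
      pl_smul_right, pl_comm (Q := qm) q v0, h2a, h2b, polar_v0, cp_v0]
    simp
  have h := Submodule.finrank_mono hle
  rw [LinearMap.BilinForm.finrank_orthogonal nd_qm] at h
  have h' := Submodule.finrank_sup_add_finrank_inf_eq R (ZMod 2 ∙ v0)
  have hdis : R ⊓ (ZMod 2 ∙ v0) = ⊥ := by
    rw [Submodule.eq_bot_iff]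
    rintro w ⟨hw, hw'⟩
    obtain ⟨c, rfl⟩ := Submodule.mem_span_singleton.1 hw'
    rcases z2 c with rfl | rfl
    · simp
    · rw [one_smul] at hw; exact absurd hw hnv
  rw [hdis, finrank_bot, add_zero, finrank_span_singleton v0_ne] at h'
  have h8 : Module.finrank (ZMod 2) V8 = 8 := by simp [Module.finrank_fintype_fun_eq_card]
  obtain ⟨k, hk⟩ := even_res (F.T.ρ_mem u huz)
  rw [← range_gm, ← hR] at hk ⊢
  have h4 : Module.finrank (ZMod 2) R + 1 ≤ 4 := by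
    refine Nat.le_of_mul_le_mul_left (?_ : 2 * _ ≤ 2 * 4) two_pos
    rw [← h', two_mul]
    exact (Nat.add_le_of_le_sub (Submodule.finrank_le _) h).trans (le_of_eq h8)
  have h5 : k + k + 1 ≤ 4 := (congrArg (· + 1) hk).symm.trans_le h4
  exact hk.trans_le (by omega)

/-- Conjugation by a preimage of `p0` adds `θ` to `κ`. -/
theorem shift {a b : G} (ha : a ∈ A F.Q F.v) (hb : b ∈ A F.P F.z) :
    ∃ g, g ∈ F.Q ∧ F.T.c g = p0 ∧ ∃ a' ∈ A F.Q F.v, g * (a * b) * g⁻¹ = a' * b ∧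
      F.κ a' = F.κ a + F.θ b := by
  obtain ⟨p, hp, hpc⟩ := F.T.c_surj p0
  have hbz := (mem_A.mp hb).2
  have haQ := (mem_A.mp ha).1
  have hy : p * (b * p⁻¹ * b⁻¹) ∈ F.Q := mul_mem hp (F.T.data.norm b hbz _ (inv_mem hp))
  have hyc : F.T.c (p * (b * p⁻¹ * b⁻¹)) = io (F.θ b) + qU (F.θ b) • v0 := by
    rw [F.T.c_mul _ hp _ (F.T.data.norm b hbz _ (inv_mem hp)), F.T.ρ_conj b hbz _ (inv_mem hp),
      F.T.c_inv hp, hpc, F.ap_B hb, cp_p0, pu_p0, bU_zero_left, one_smul, one_mul, add_zero,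
      ← add_assoc, ← add_assoc, ZModModule.add_self, zero_add]
  have hpa := mul_mem (mul_mem hp haQ) (inv_mem hp)
  have hpac : F.T.c (p * a * p⁻¹) = F.T.c a := by
    rw [F.T.c_mul _ (mul_mem hp haQ) _ (inv_mem hp), F.T.c_mul p hp a haQ, F.T.c_inv hp,
      add_comm (F.T.c p), add_assoc, ZModModule.add_self, add_zero]
  refine ⟨p, hp, hpc, p * a * p⁻¹ * (p * (b * p⁻¹ * b⁻¹)), ?_, by group, ?_⟩
  · refine F.mem_A_iff.2 ⟨mul_mem hpa hy, ?_⟩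
    rw [F.T.c_mul _ hpa _ hy, hpac, hyc, cp_add, (F.mem_A_iff.1 ha).2, cp_add, cp_io]
    simp [cp, v0]
  · rw [F.κ_mul hpa hy, κ, hpac, κ, hyc, pu_add, pu_io, pu_smul, pu_v0, smul_zero, add_zero]
    rfl

theorem move_AB {a b : G} (ha : a ∈ A F.Q F.v) (hb : b ∈ A F.P F.z) {x y : U6} (hx : qU x = 1)
    (hy : qU y = 1) : ∃ g, g * F.z = F.z * g ∧ ∃ a' ∈ A F.Q F.v, ∃ b' ∈ A F.P F.z,
      g * (a * b) * g⁻¹ = a' * b' ∧ F.κ a' = rU x (rU y (F.κ a)) ∧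
      F.θ b' = rU x (rU y (F.θ b)) := by
  obtain ⟨d, hd, hρ⟩ := F.exists_D hx hy
  exact ⟨d, (F.mem_D.1 hd).1, d * a * d⁻¹, F.A_norm hd ha, d * b * d⁻¹, F.B_norm hd hb, by group,
    F.κ_conj_D hx hy hd hρ (mem_A.mp ha).1, F.θ_conj hd hb hx hy hρ⟩

theorem classify_AB {a b : G} (ha : a ∈ A F.Q F.v) (hb : b ∈ A F.P F.z) (hθ : F.θ b ≠ 0)
    (h2 : a * b * (a * b) = 1) :
    ∃ g, g * F.z = F.z * g ∧ ((F.κ a = 0 ∨ F.κ a = F.θ b) ∧ g * (a * b) * g⁻¹ ∈ F.P ∨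
      (F.κ a ≠ 0 ∧ F.κ a ≠ F.θ b) ∧
        (F.TypP A0 W0 (g * (a * b) * g⁻¹) ∨ F.TypP E0 E2 (g * (a * b) * g⁻¹))) := by
  have hsq := F.sq_AB ha hb
  rw [h2] at hsq
  obtain ⟨e1, e2⟩ := F.vz_inj (i := 0) (j := 0) (by rw [← hsq]; simp)
  have k1 : qU (F.κ a) = bU (F.κ a) (F.θ b) := add_eq_zero_z2 e1.symm
  have k2 : qU (F.θ b) = bU (F.κ a) (F.θ b) := add_eq_zero_z2 e2.symm
  rcases eq_or_ne (F.κ a) 0 with h | h0
  · exact ⟨1, (Commute.one_left _).eq, Or.inl ⟨Or.inl h, by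
      rw [one_mul, inv_one, mul_one]; exact mul_mem (F.ker_κ ha h).2 (mem_A.mp hb).1⟩⟩
  rcases eq_or_ne (F.κ a) (F.θ b) with h | hne
  · obtain ⟨g, hg, -, a', ha', he, hκ⟩ := F.shift ha hb
    refine ⟨g, F.T.Qz hg, Or.inl ⟨Or.inr h, ?_⟩⟩
    rw [he]
    exact mul_mem (F.ker_κ ha' (by rw [hκ, h, ZModModule.add_self])).2 (mem_A.mp hb).1
  rcases z2 (bU (F.κ a) (F.θ b)) with hk | hk <;> rw [hk] at k1 k2
  · obtain ⟨x, hx, y, hy, hw⟩ := exists_to_e2 _ hθ k2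
    obtain ⟨g1, hg1, a1, ha1, b1, hb1, he1, hκ1, hθ1⟩ := F.move_AB ha hb hx hy
    rw [hw] at hθ1
    have hinj : ∀ {t s : U6}, rU x (rU y t) = rU x (rU y s) → t = s := fun {t s} e => by
      have := congrArg (fun r => rU y (rU x r)) e
      simpa [rU_rU] using this
    have hne0 : F.κ a1 ≠ 0 := by
      rw [hκ1]; intro e; exact h0 (hinj (e.trans (by rw [rU_zero, rU_zero])))
    have hne2 : F.κ a1 ≠ E2 := by
      rw [hκ1, ← hw]; intro e; exact hne (hinj e)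
    have hqa1 : qU (F.κ a1) = 0 := by rw [hκ1, qU_rU hx, qU_rU hy, k1]
    have hk1 : bU (F.κ a1) E2 = 0 := by rw [hκ1, ← hw, bU_pair, hk]
    obtain ⟨s, hs, t, ht, hfix, hA⟩ := exists_to_e0 _ hne0 hne2 hqa1 hk1
    obtain ⟨g2, hg2, a2, ha2, b2, hb2, he2, hκ2, hθ2⟩ := F.move_AB ha1 hb1 hs ht
    rw [hθ1, hfix] at hθ2
    have he21 : g2 * g1 * (a * b) * (g2 * g1)⁻¹ = a2 * b2 := by
      rw [← he2, ← he1]; group
    rcases hA with hA | hA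
    · exact ⟨g2 * g1, (Commute.mul_left hg2 hg1).eq, Or.inr ⟨⟨h0, hne⟩,
        Or.inr ⟨a2, ha2, b2, hb2, he21, hκ2.trans hA, hθ2⟩⟩⟩
    · obtain ⟨g3, hg3, -, a3, ha3, he3, hκ3⟩ := F.shift ha2 hb2
      refine ⟨g3 * (g2 * g1), (Commute.mul_left (F.T.Qz hg3) (Commute.mul_left hg2 hg1)).eq,
        Or.inr ⟨⟨h0, hne⟩, Or.inr ⟨a3, ha3, b2, hb2, ?_, ?_, hθ2⟩⟩⟩
      · rw [← he3, ← he21]; group
      · rw [hκ3, hκ2, hA, hθ2, add_assoc, ZModModule.add_self, add_zero]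
  · obtain ⟨x, hx, y, hy, hw⟩ := exists_to_w0 _ k2
    obtain ⟨g1, hg1, a1, ha1, b1, hb1, he1, hκ1, hθ1⟩ := F.move_AB ha hb hx hy
    rw [hw] at hθ1
    have hqa1 : qU (F.κ a1) = 1 := by rw [hκ1, qU_rU hx, qU_rU hy, k1]
    have hk1 : bU (F.κ a1) W0 = 1 := by rw [hκ1, ← hw, bU_pair, hk]
    obtain ⟨s, hs, t, ht, hfix, hA⟩ := exists_to_a0 _ hqa1 hk1
    obtain ⟨g2, hg2, a2, ha2, b2, hb2, he2, hκ2, hθ2⟩ := F.move_AB ha1 hb1 hs ht
    rw [hθ1, hfix] at hθ2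
    have he21 : g2 * g1 * (a * b) * (g2 * g1)⁻¹ = a2 * b2 := by
      rw [← he2, ← he1]; group
    rcases hA with hA | hA
    · exact ⟨g2 * g1, (Commute.mul_left hg2 hg1).eq, Or.inr ⟨⟨h0, hne⟩,
        Or.inl ⟨a2, ha2, b2, hb2, he21, hκ2.trans hA, hθ2⟩⟩⟩
    · obtain ⟨g3, hg3, -, a3, ha3, he3, hκ3⟩ := F.shift ha2 hb2
      refine ⟨g3 * (g2 * g1), (Commute.mul_left (F.T.Qz hg3) (Commute.mul_left hg2 hg1)).eq,
        Or.inr ⟨⟨h0, hne⟩, Or.inl ⟨a3, ha3, b2, hb2, ?_, ?_, hθ2⟩⟩⟩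
      · rw [← he3, ← he21]; group
      · rw [hκ3, hκ2, hθ2, ← hA, rU_add t, rU_add s, hfix]

/-- The outcomes inside `C(z)`. -/
def Known (u : G) : Prop := u ∈ F.P ∨ F.TypP A0 W0 u ∨ F.TypP E0 E2 u

theorem classify_fix {u : G} (hu : u ∈ F.D) (h2 : u * u = 1) (hQ : u ∉ F.Q)
    (hfix : ∀ t, F.lm u t = t) : ∃ g, g * F.z = F.z * g ∧ F.Known (g * u * g⁻¹) := by
  obtain ⟨a, ha, b, hb, rfl⟩ := F.mem_AB_of_fix hu hfix
  have hθ : F.θ b ≠ 0 := fun e => hQ (mul_mem (mem_A.mp ha).1 (F.θ_ker hb e).1)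
  obtain ⟨g, hg, ⟨-, h⟩ | ⟨-, h⟩⟩ := F.classify_AB ha hb hθ h2
  · exact ⟨g, hg, Or.inl h⟩
  · exact ⟨g, hg, Or.inr h⟩

theorem classify_thin {u : G} (hu : u * F.z = F.z * u) (h2 : u * u = 1) (hQ : u ∉ F.Q)
    (hle : Module.finrank (ZMod 2) (resSpace (F.T.ρ u)) ≤ 2) :
    ∃ g, g * F.z = F.z * g ∧ F.Known (g * u * g⁻¹) := by
  have hρ2 : F.T.ρ u * F.T.ρ u = 1 := by rw [← F.T.ρ_mul u u hu hu, h2, F.T.ρ_one]
  have hρ1 : F.T.ρ u ≠ 1 := fun e => hQ ((F.T.ρ_ker u hu).1 e)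
  obtain ⟨x, hx0, hxq⟩ := exists_sing hρ2 hρ1 (F.T.ρ_mem u hu)
  obtain ⟨g0, hg0, hD, ⟨x', hx'⟩, -⟩ := F.conj_to_fix hu h2 hx0 hxq
  have hρ : F.T.ρ (g0 * u * g0⁻¹) = F.T.ρ g0 * F.T.ρ u * (F.T.ρ g0)⁻¹ := by
    rw [F.T.ρ_mul _ _ (Commute.mul_left hg0 hu).eq (Commute.inv_left hg0).eq,
      F.T.ρ_mul g0 u hg0 hu, F.T.ρ_inv hg0]
  have hle' : Module.finrank (ZMod 2) (resSpace (F.T.ρ (g0 * u * g0⁻¹))) ≤ 2 := by
    refine le_trans ?_ hle
    rw [hρ]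
    have hsub : resSpace (F.T.ρ g0 * F.T.ρ u * (F.T.ρ g0)⁻¹) ≤
        (resSpace (F.T.ρ u)).map (ap (F.T.ρ g0)) := by
      rintro _ ⟨t, rfl⟩
      refine ⟨ap (F.T.ρ u) (ap (F.T.ρ g0)⁻¹ t) - ap (F.T.ρ g0)⁻¹ t, sub_mem_resSpace _ _, ?_⟩
      rw [map_sub, ← ap_mul, ← ap_mul, ap_ap_inv]
      rfl
    exact (Submodule.finrank_mono hsub).trans (Submodule.finrank_map_le _ _)
  obtain ⟨g, hg, hk⟩ := F.classify_fix hD (conj_invol h2)
    (fun h => hQ ((F.T.data.norm_iff g0 hg0 u).1 h)) (F.lm_of_thin hD (conj_invol h2) hle' hx')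
  refine ⟨g * g0, (Commute.mul_left hg hg0).eq, ?_⟩
  rwa [show g * g0 * u * (g * g0)⁻¹ = g * (g0 * u * g0⁻¹) * g⁻¹ by group]

/-- A nontrivial middle action with singular commutators is conjugate to `L0`. -/
theorem exists_L0 {u : G} (hu : u ∈ F.D) (h2 : u * u = 1)
    (hq : ∀ t, qU (F.lm u t + t) = 0) (hne : ∃ t, F.lm u t ≠ t) :
    ∃ d ∈ F.D, ∀ t, F.lm (d * u * d⁻¹) t = L0 t := by
  let gl : U6 →ₗ[ZMod 2] U6 :=
    AddMonoidHom.toZModLinearMap 2 (AddMonoidHom.mk' (fun t => F.lm u t + t) (fun a b => by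
      rw [F.lm_add]; abel))
  have hgl : ∀ t, gl t = F.lm u t + t := fun _ => rfl
  have hsym : ∀ a b, bUl a b = bUl b a := bU_comm
  have hadj : ∀ a b, bUl (gl a) b = bUl a (gl b) := by
    intro a b
    simp only [bUl_apply, hgl, bU_add_left, bU_add_right]
    congr 1
    calc bU (F.lm u a) b = bU (F.lm u (F.lm u a)) (F.lm u b) := (F.lm_bU hu _ _).symm
      _ = _ := by rw [F.lm_inv hu h2]
  have hsing : ∀ t, qU (gl t) = 0 := by
    intro t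
    rw [hgl]
    exact hq t
  have halt : ∀ t, bUl t (gl t) = 0 := by
    intro t
    have h := hsing t
    rw [hgl, qU_add, F.lm_qU hu, ZModModule.add_self, zero_add] at h
    rw [bUl_apply, hgl, bU_add_right, bU_self, add_zero, bU_comm]
    exact h
  have hgl0 : gl ≠ 0 := by
    obtain ⟨t, ht⟩ := hne
    intro e
    refine ht ?_
    have e' := LinearMap.congr_fun e t
    rw [hgl, LinearMap.zero_apply] at e'
    exact (add_eq_zero_iff_eq_neg.mp e').trans (ZModModule.neg_eq_self _)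
  obtain ⟨x, y, hxy⟩ := exists_pair bUl gl bUl_nd hsym hgl0
  obtain ⟨hx0, hy0, hxy', -⟩ := pair_range bUl gl hadj hsym halt hxy
  have hgg : ∀ t, gl (gl t) = 0 := fun t => by
    simp only [hgl, F.lm_add, F.lm_inv hu h2]
    rw [add_comm t, ZModModule.add_self]
  have hiso : ∀ a b, bUl (gl a) (gl b) = 0 := fun a b => by rw [hadj, hgg, map_zero]
  have h6 : 2 * Module.finrank (ZMod 2) (LinearMap.range gl) ≤ 6 := by
    have h := finrank_range_le bUl gl bUl_nd hiso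
    rwa [Module.finrank_fintype_fun_eq_card, Fintype.card_fin] at h
  have hform := normal_form bUl gl hadj hsym halt bUl_nd hxy (by omega)
  obtain ⟨a, ha, b, hb, hab⟩ := exists_to_e2 _ hy0 (hsing y)
  have hinj : ∀ {t s : U6}, rU a (rU b t) = rU a (rU b s) → t = s := fun {t s} e => by
    have := congrArg (fun r => rU b (rU a r)) e
    simpa [rU_rU] using this
  obtain ⟨c, hc, c', hc', hfix, hE⟩ := exists_to_e0 (rU a (rU b (gl x)))
    (fun e => hx0 (hinj (e.trans (by rw [rU_zero, rU_zero]))))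
    (fun e => hxy' (hinj (e.trans hab.symm)))
    (by rw [qU_rU ha, qU_rU hb, hsing])
    (by rw [← hab, bU_pair]; exact hiso x y)
  obtain ⟨d1, hd1, hρ1⟩ := F.exists_D ha hb
  obtain ⟨d2, hd2, hρ2⟩ := F.exists_D hc hc'
  have hd := mul_mem hd2 hd1
  refine ⟨d2 * d1, hd, fun t => ?_⟩
  have hσ : ∀ s, F.lm (d2 * d1) s = rU c (rU c' (rU a (rU b s))) := fun s => by
    rw [F.lm_mul hd2 hd1, F.lm_D hd2 hc hc' hρ2, F.lm_D hd1 ha hb hρ1]
  obtain ⟨s, rfl⟩ : ∃ s, t = F.lm (d2 * d1) s :=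
    ⟨F.lm (d2 * d1)⁻¹ t, by rw [← F.lm_mul hd (inv_mem hd), mul_inv_cancel, F.lm_one]⟩
  rw [F.lm_mul (mul_mem hd hu) (inv_mem hd), F.lm_mul hd hu, ← F.lm_mul (inv_mem hd) hd,
    inv_mul_cancel, F.lm_one]
  have e : F.lm u s = s + (bU s (gl y) • gl x + bU s (gl x) • gl y) := by
    have e' := hform s
    simp only [bUl_apply] at e'
    rw [← e']
    rw [hgl, add_comm (F.lm u s) s, ← add_assoc, ZModModule.add_self, zero_add]
  rw [e, F.lm_add, F.lm_add, F.lm_smul, F.lm_smul, L0]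
  rw [← F.lm_bU hd s (gl y), ← F.lm_bU hd s (gl x), hσ (gl y), hab, hfix, hσ (gl x)]
  rcases hE with hE | hE <;> rw [hE]
  · rw [bU_comm E2, bU_comm E0, add_assoc]
  · rw [bU_comm E2, bU_comm E0, bU_add_right, smul_add, add_smul]
    calc F.lm (d2 * d1) s + (bU (F.lm (d2 * d1) s) E2 • E0 + bU (F.lm (d2 * d1) s) E2 • E2 +
          (bU (F.lm (d2 * d1) s) E0 • E2 + bU (F.lm (d2 * d1) s) E2 • E2))
        = F.lm (d2 * d1) s + bU (F.lm (d2 * d1) s) E2 • E0 + bU (F.lm (d2 * d1) s) E0 • E2 +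
          (bU (F.lm (d2 * d1) s) E2 • E2 + bU (F.lm (d2 * d1) s) E2 • E2) := by abel
      _ = _ := by rw [ZModModule.add_self, add_zero]

theorem classify {u : G} (hu : u * F.z = F.z * u) (h2 : u * u = 1) (hQ : u ∉ F.Q) :
    ∃ g, g * F.z = F.z * g ∧ (F.Known (g * u * g⁻¹) ∨
      (g * u * g⁻¹ ∈ F.D ∧ ∀ t, F.lm (g * u * g⁻¹) t = L0 t)) := by
  have hρ2 : F.T.ρ u * F.T.ρ u = 1 := by rw [← F.T.ρ_mul u u hu hu, h2, F.T.ρ_one]
  have hρ1 : F.T.ρ u ≠ 1 := fun e => hQ ((F.T.ρ_ker u hu).1 e)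
  obtain ⟨x, hx0, hxq, hxgood⟩ := exists_good hρ2 hρ1 (F.T.ρ_mem u hu)
  obtain ⟨g0, hg0, hD, -, hgv⟩ := F.conj_to_fix hu h2 hx0 hxq
  have hρ : F.T.ρ (g0 * u * g0⁻¹) = F.T.ρ g0 * F.T.ρ u * (F.T.ρ g0)⁻¹ := by
    rw [F.T.ρ_mul _ _ (Commute.mul_left hg0 hu).eq (Commute.inv_left hg0).eq,
      F.T.ρ_mul g0 u hg0 hu, F.T.ρ_inv hg0]
  have hq : ∀ t, cp t = 0 → qm (ap (F.T.ρ (g0 * u * g0⁻¹)) t + t) = 0 := by
    intro t ht
    obtain ⟨s, rfl⟩ : ∃ s, t = ap (F.T.ρ g0) s := ⟨ap (F.T.ρ g0)⁻¹ t, (ap_ap_inv _ _).symm⟩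
    rw [hρ, ap_mul, ap_mul, ap_inv_ap, ← map_add, Q_ap]
    refine hxgood s ?_
    rw [← polar_ap (F.T.ρ g0), hgv, pl_comm, polar_v0, ht]
  by_cases hall : ∀ t, F.lm (g0 * u * g0⁻¹) t = t
  · obtain ⟨g, hg, hk⟩ := F.classify_fix hD (conj_invol h2)
      (fun h => hQ ((F.T.data.norm_iff g0 hg0 u).1 h)) hall
    refine ⟨g * g0, (Commute.mul_left hg hg0).eq, Or.inl ?_⟩
    rwa [show g * g0 * u * (g * g0)⁻¹ = g * (g0 * u * g0⁻¹) * g⁻¹ by group]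
  · push Not at hall
    obtain ⟨d, hd, hL⟩ := F.exists_L0 hD (conj_invol h2) (fun t => by
      have h := hq (io t) (cp_io t)
      rw [qm_eq, cp_add, F.cp_ap hD, cp_io, add_zero, mul_zero, zero_add, pu_add, pu_io] at h
      exact h) hall
    have e : d * g0 * u * (d * g0)⁻¹ = d * (g0 * u * g0⁻¹) * d⁻¹ := by group
    refine ⟨d * g0, (Commute.mul_left (F.mem_D.1 hd).1 hg0).eq, Or.inr ?_⟩
    rw [e]
    exact ⟨mul_mem (mul_mem hd hD) (inv_mem hd), hL⟩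

theorem typ_inv {A W : U6} (hp : Pair A W) {u : G} (h : F.TypP A W u) :
    u * u = 1 ∧ u ∉ F.Q ∧ u ∈ F.D := by
  obtain ⟨a, ha, b, hb, rfl, hκ, hθ⟩ := h
  refine ⟨?_, fun hm => ?_, mul_mem (F.A_le_D ha) (F.B_le_D hb)⟩
  · rw [F.sq_AB ha hb, hκ, hθ, hp.qA, hp.qW, pw_zero, pw_zero, one_mul]
  · have hbQ : b ∈ F.Q := by simpa using mul_mem (inv_mem (mem_A.mp ha).1) hm
    have : F.θ b = 0 := F.θ_pw_mul ⟨hbQ, (mem_A.mp hb).1⟩
    exact hp.ne (hθ.symm.trans this)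

theorem exists_typ (A W : U6) : ∃ u, F.TypP A W u := by
  obtain ⟨a, ha, hκ⟩ := F.κ_surj A
  obtain ⟨b, hb, hθ⟩ := F.θ_surj W
  exact ⟨a * b, a, ha, b, hb, rfl, hκ, hθ⟩

/-- Commutator of an element of `A` with a product. -/
theorem conj_A {s a b : G} (hs : s ∈ A F.Q F.v) (ha : a ∈ A F.Q F.v) (hb : b ∈ A F.P F.z) :
    s * (a * b) * s⁻¹ =
      a * b * (pw F.z (bU (F.κ s) (F.κ a + F.θ b)) * pw F.v (bU (F.κ s) (F.θ b))) := by
  have h1 : ⁅s, a⁆ = pw F.z (bU (F.κ s) (F.κ a)) := by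
    rw [F.T.comm_Q (mem_A.mp hs).1 (mem_A.mp ha).1, polar_eq, (F.mem_A_iff.1 hs).2,
      (F.mem_A_iff.1 ha).2, mul_zero, zero_mul, add_zero, zero_add]
    rfl
  have h2 : ⁅s, b⁆ = pw F.z (bU (F.κ s) (F.θ b)) * pw F.v (bU (F.κ s) (F.θ b)) := by
    rw [← commutatorElement_inv, F.comm_ba hs hb, mul_inv_rev, pw_inv F.z_sq, pw_inv F.v_sq]
    exact (pw_comm _ (F.T.Qz (pw_mem F.hv _)) _)
  have hd := mul_mem (F.A_le_D ha) (F.B_le_D hb)
  rw [F.D_fix_V hd, bU_add_right, pw_add F.z_sq, mul_assoc (pw F.z _), ← h2, ← h1]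
  have hf : a * ⁅s, b⁆ = ⁅s, b⁆ * a :=
    F.V_fix (F.A_le_D ha) (by
      rw [← commutatorElement_inv]; exact inv_mem (F.comm_ba_mem hs hb))
  calc s * (a * b) * s⁻¹ = ⁅s, a⁆ * (a * ⁅s, b⁆) * b := by simp only [commutatorElement_def]; group
    _ = _ := by rw [hf]; group

theorem typ_conj {A W : U6} (hp : Pair A W) {u u' : G} (h : F.TypP A W u) (h' : F.TypP A W u') :
    ∃ g ∈ Cfg.A F.Q F.v, g * u * g⁻¹ = u' := by
  obtain ⟨a, ha, b, hb, rfl, hκ, hθ⟩ := h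
  obtain ⟨a', ha', b', hb', rfl, hκ', hθ'⟩ := h'
  have m1 : a⁻¹ * a' ∈ F.Q ⊓ F.P := F.ker_κ (mul_mem (inv_mem ha) ha') (by
    rw [F.κ_mul (inv_mem (mem_A.mp ha).1) (mem_A.mp ha').1, F.κ_inv (mem_A.mp ha).1, hκ, hκ',
      ZModModule.add_self])
  have m2 : b⁻¹ * b' ∈ F.Q ⊓ F.P := F.θ_ker (mul_mem (inv_mem hb) hb') (by
    rw [F.θ_mul (inv_mem hb) hb', F.θ_inv hb, hθ, hθ', ZModModule.add_self])
  obtain ⟨i, j, hij⟩ := F.E_inV (mul_mem m2 m1)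
  have e : a' * b' = a * b * (pw F.z i * pw F.v j) := by
    rw [← hij]
    have hf := F.V_fix (F.B_le_D hb') m1
    calc a' * b' = a * ((a⁻¹ * a') * b') := by group
      _ = a * (b' * (a⁻¹ * a')) := by rw [hf]
      _ = _ := by group
  obtain ⟨w, hw1, hw2⟩ := hp.sep i j
  obtain ⟨s, hs, hsκ⟩ := F.κ_surj w
  refine ⟨s, hs, ?_⟩
  rw [F.conj_A hs ha hb, hsκ, hκ, hθ, hw1, hw2, e]

end Fr

end Cfsg.Agent.CoType
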