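/-
The standard shapes are not conjugate to `z` (helper22).

* `noZ` , `typ_comm_z` : `z` is a commutator `⁅u, q⁆` for the standard shapes and never inside `P`
* `sing_C`, `not_sing_B` : the two standard shapes differ in `C(z)`
* `typ_not_conj` : the count of the transported centralizer in the radical
-/
import Cfsg.Agent.Lib.CoType.Classify

set_option autoImplicit false
open scoped commutatorElement

namespace Cfsg.Agent.CoType

open Cfsg.Agent.Orth Cfsg.Agent.LargeExtraspecial Cfsg.Agent.LargeExtraspecial.Cfg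
open QuadraticMap (polar)

theorem decomp_B : ∀ t : U6, ∃ i j : ZMod 2,
    bU (t + i • A0 + j • W0) A0 = 0 ∧ bU (t + i • A0 + j • W0) W0 = 0 := by
  decide +kernel

theorem perp_B : ∀ w : U6, w = 0 ∨ w = A0 ∨ w = W0 ∨ w = A0 + W0 ∨
    ∃ s : U6, bU s A0 = 0 ∧ bU s W0 = 0 ∧ bU s w = 1 := by
  decide +kernel

theorem perp_C : ∀ w : U6, w = 0 ∨ w = E0 ∨ w = E2 ∨ w = E0 + E2 ∨
    ∃ s : U6, bU s E0 = 0 ∧ bU s E2 = 0 ∧ bU s w = 1 := by
  decide +kernel

theorem fix_C_images : ∀ y z : U6, qU y = 0 → qU z = 0 → bU E0 y = 1 → bU E2 y = 0 →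
    bU E4 y = 0 → bU E5 y = 0 → bU E0 z = 0 → bU E2 z = 1 → bU E4 z = 0 → bU E5 z = 0 →
    bU y z = 0 → (y = E1 ∧ z = E3) ∨ (y = E1 + E2 ∧ z = E3 + E0) := by
  decide +kernel

/-- A map fixing the orthogonal of the pair, up to at most one exception. -/
structure Fixed (A W : U6) : Prop where
  perp : ∀ w : U6, (∀ s : U6, bU s A = 0 → bU s W = 0 → bU s w = 0) →
    w = 0 ∨ w = A ∨ w = W ∨ w = A + W
  maps : ∀ L : U6 → U6, (∀ t s, L (t + s) = L t + L s) → (∀ t s, bU (L t) (L s) = bU t s) →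
    (∀ t, qU (L t) = qU t) → L A = A → L W = W → (∀ s, bU s A = 0 → bU s W = 0 → L s = s) →
    (∀ t, L t = t) ∨ ∀ t, L t = L0 t

theorem additive_zero {L : U6 → U6} (hadd : ∀ t s, L (t + s) = L t + L s) : L 0 = 0 := by
  have h := hadd 0 0
  rw [add_zero] at h
  exact add_eq_left.mp h.symm

theorem additive_smul {L : U6 → U6} (hadd : ∀ t s, L (t + s) = L t + L s) (c : ZMod 2) (t : U6) :
    L (c • t) = c • L t := by
  rcases z2 c with rfl | rfl <;> simp [additive_zero hadd]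

theorem fixedB : Fixed A0 W0 where
  perp w h := by
    rcases perp_B w with e | e | e | e | ⟨s, h1, h2, h3⟩
    exacts [Or.inl e, Or.inr (Or.inl e), Or.inr (Or.inr (Or.inl e)), Or.inr (Or.inr (Or.inr e)),
      absurd ((h s h1 h2).symm.trans h3) zero_ne_one]
  maps L hadd hb hq hA hW hfix := by
    left
    intro t
    obtain ⟨i, j, h1, h2⟩ := decomp_B t
    have e : t = (t + i • A0 + j • W0) + i • A0 + j • W0 := by
      calc t = t + (i • A0 + i • A0) + (j • W0 + j • W0) := by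
            rw [ZModModule.add_self, ZModModule.add_self, add_zero, add_zero]
        _ = _ := by abel
    rw [e, hadd, hadd, hfix _ h1 h2, additive_smul hadd, additive_smul hadd, hA, hW]

theorem fixedC : Fixed E0 E2 where
  perp w h := by
    rcases perp_C w with e | e | e | e | ⟨s, h1, h2, h3⟩
    exacts [Or.inl e, Or.inr (Or.inl e), Or.inr (Or.inr (Or.inl e)), Or.inr (Or.inr (Or.inr e)),
      absurd ((h s h1 h2).symm.trans h3) zero_ne_one]
  maps L hadd hb hq hA hW hfix := by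
    have h4 : L E4 = E4 := hfix _ (by decide) (by decide)
    have h5 : L E5 = E5 := hfix _ (by decide) (by decide)
    have hq1 : qU (L E1) = 0 := by rw [hq]; decide
    have hq3 : qU (L E3) = 0 := by rw [hq]; decide
    have b01 : bU E0 (L E1) = 1 := by rw [← hA, hb]; decide
    have b21 : bU E2 (L E1) = 0 := by rw [← hW, hb]; decide
    have b41 : bU E4 (L E1) = 0 := by rw [← h4, hb]; decide
    have b51 : bU E5 (L E1) = 0 := by rw [← h5, hb]; decide
    have b03 : bU E0 (L E3) = 0 := by rw [← hA, hb]; decide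
    have b23 : bU E2 (L E3) = 1 := by rw [← hW, hb]; decide
    have b43 : bU E4 (L E3) = 0 := by rw [← h4, hb]; decide
    have b53 : bU E5 (L E3) = 0 := by rw [← h5, hb]; decide
    have b13 : bU (L E1) (L E3) = 0 := by rw [hb]; decide
    have key : ∀ t, L t = t 0 • L E0 + t 1 • L E1 + t 2 • L E2 + t 3 • L E3 + t 4 • L E4 + t 5 • L E5 := by
      intro t
      conv_lhs => rw [decomp6 t]
      simp only [hadd, additive_smul hadd]
    rcases fix_C_images _ _ hq1 hq3 b01 b21 b41 b51 b03 b23 b43 b53 b13 with ⟨e1, e3⟩ | ⟨e1, e3⟩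
    · left; intro t
      rw [key, hA, hW, h4, h5, e1, e3, ← decomp6]
    · right; intro t
      rw [key, hA, hW, h4, h5, e1, e3, L0]
      conv_rhs => arg 1; arg 1; rw [decomp6 t]
      have a1 : bU E2 t = t 3 := by simp [bU, E2]
      have a2 : bU E0 t = t 1 := by simp [bU, E0]
      rw [a1, a2, smul_add, smul_add]
      abel

variable {G : Type*} [Group G]

namespace Fr

variable (F : Fr G) [Finite G]

/-- All `⁅u, x⁆` for `x` in the radical square to one. -/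
def Sing (u : G) : Prop := ∀ x ∈ F.Q, ⁅u, x⁆ * ⁅u, x⁆ = 1

theorem sing_conj {g u : G} (hg : g * F.z = F.z * g) (h : F.Sing (g * u * g⁻¹)) : F.Sing u := by
  intro x hx
  have h' := h _ (F.T.data.norm g hg x hx)
  have e : ⁅g * u * g⁻¹, g * x * g⁻¹⁆ = g * ⁅u, x⁆ * g⁻¹ := by
    simp only [commutatorElement_def]; group
  rw [e] at h'
  refine conj_eq_one_iff.mp (?_ : g * (⁅u, x⁆ * ⁅u, x⁆) * g⁻¹ = 1)
  rw [← h']; group

theorem sq_comm {u x : G} (hu : u * F.z = F.z * u) (hx : x ∈ F.Q) :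
    ⁅u, x⁆ * ⁅u, x⁆ = pw F.z (qm (ap (F.T.ρ u) (F.T.c x) + F.T.c x)) := by
  have h := F.T.data.norm u hu x hx
  rw [commutatorElement_def, F.T.sq _ (mul_mem h (inv_mem hx)), F.T.c_mul _ h _ (inv_mem hx),
    F.T.c_inv hx, F.T.ρ_conj u hu x hx]

theorem ρ_AB {a b : G} (ha : a ∈ A F.Q F.v) (hb : b ∈ A F.P F.z) : F.T.ρ (a * b) = F.T.ρ b := by
  have haQ := (mem_A.mp ha).1
  rw [F.T.ρ_mul a b (F.T.Qz haQ) (mem_A.mp hb).2, F.T.ρ_Q haQ, one_mul]

theorem sing_C {u : G} (h : F.TypP E0 E2 u) : F.Sing u := by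
  obtain ⟨a, ha, b, hb, rfl, -, hθ⟩ := h
  intro x hx
  have hz := (F.mem_D.1 (mul_mem (F.A_le_D ha) (F.B_le_D hb))).1
  rw [F.sq_comm hz hx, F.ρ_AB ha hb, F.ap_B hb, hθ]
  have e : qm (F.T.c x + cp (F.T.c x) • io E2
      + (cp (F.T.c x) * qU E2 + bU (pu (F.T.c x)) E2) • v0 + F.T.c x) = 0 := by
    have hq : qU E2 = 0 := by decide
    rw [add_comm _ (F.T.c x), ← add_assoc, ← add_assoc, ZModModule.add_self, zero_add]
    rcases z2 (cp (F.T.c x)) with k | k <;> rw [k]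
    · rw [zero_smul, zero_add, zero_mul, zero_add, qm_eq, pu_smul, pu_v0, smul_zero, qU_zero]
      simp [cp, v0]
    · rw [one_smul, qm_eq, cp_add, cp_io, pu_add, pu_io, pu_smul, pu_v0, smul_zero, add_zero, hq]
      simp [cp, v0]
  rw [e, pw_zero]

theorem not_sing_B {u : G} (h : F.TypP A0 W0 u) : ¬ F.Sing u := by
  obtain ⟨a, ha, b, hb, rfl, hκ, hθ⟩ := h
  intro hs
  obtain ⟨p, hp, hpc⟩ := F.T.c_surj p0
  have hz := (F.mem_D.1 (mul_mem (F.A_le_D ha) (F.B_le_D hb))).1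
  have h := hs p hp
  rw [F.sq_comm hz hp, F.ρ_AB ha hb, hpc, F.ap_B hb, hθ, cp_p0, pu_p0, bU_zero_left, qU_W0,
    one_smul, one_mul, add_zero, one_smul] at h
  have e : qm (p0 + io W0 + v0 + p0) = 1 := by
    rw [add_comm _ p0, ← add_assoc, ← add_assoc, ZModModule.add_self, zero_add, qm_eq, cp_add,
      cp_io, cp_v0, pu_add, pu_io, pu_v0, add_zero, add_zero, mul_zero, zero_add, qU_W0]
  rw [e, pw_one] at h
  exact F.z_ne h

/-- Inside `P` the element `z` is no commutator with the radical. -/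
theorem noZ {u q : G} (hu : u ∈ F.P) (huz : u * F.z = F.z * u) (hQ : u ∉ F.Q) (hq : q ∈ F.Q) :
    ⁅u, q⁆ ≠ F.z := by
  intro h
  have hb : u ∈ A F.P F.z := mem_A.mpr ⟨hu, huz⟩
  have hm := F.T.data.norm u huz q hq
  have hc : F.T.c ⁅u, q⁆ = ap (F.T.ρ u) (F.T.c q) + F.T.c q := by
    rw [commutatorElement_def, F.T.c_mul _ hm _ (inv_mem hq), F.T.c_inv hq, F.T.ρ_conj u huz q hq]
  rw [h, show F.T.c F.z = 0 from F.T.c_z, F.ap_B hb] at hc
  have hp := congrArg pu hc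
  rw [add_comm _ (F.T.c q), ← add_assoc, ← add_assoc, ZModModule.add_self, zero_add, pu_add,
    pu_smul, pu_smul, pu_io, pu_v0, smul_zero, add_zero, pu_zero] at hp
  rcases z2 (cp (F.T.c q)) with k | k
  · have hqA : q ∈ A F.Q F.v := F.mem_A_iff.2 ⟨hq, k⟩
    rw [F.comm_ba hqA hb] at h
    have h' : pw F.z (bU (F.κ q) (F.θ u)) * pw F.v (bU (F.κ q) (F.θ u)) = pw F.z 1 * pw F.v 0 := by
      rw [pw_one, pw_zero, mul_one]; exact h
    obtain ⟨e1, e2⟩ := F.vz_inj h'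
    exact one_ne_zero (e1.symm.trans e2)
  · rw [k, one_smul] at hp
    exact hQ (F.θ_ker hb hp.symm).1

theorem typ_comm_z {A W : U6} (hp : Pair A W) {u : G} (h : F.TypP A W u) :
    ∃ q ∈ F.Q, ⁅u, q⁆ = F.z := by
  obtain ⟨a, ha, b, hb, rfl, hκ, hθ⟩ := h
  obtain ⟨w, h1, h2⟩ := hp.sep 1 0
  obtain ⟨s, hs, hsκ⟩ := F.κ_surj w
  have e := F.conj_A hs ha hb
  rw [hsκ, hκ, hθ, h1, h2, pw_one, pw_zero, mul_one] at e
  refine ⟨s, (mem_A.mp hs).1, ?_⟩
  calc ⁅a * b, s⁆ = a * b * (s * (a * b) * s⁻¹)⁻¹ := by rw [commutatorElement_def]; group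
    _ = a * b * F.z⁻¹ * (a * b)⁻¹ := by rw [e]; group
    _ = F.z := by
      rw [inv_eq_of_mul_eq_one_right F.z_sq,
        (F.mem_D.1 (mul_mem (F.A_le_D ha) (F.B_le_D hb))).1, mul_inv_cancel_right]

/-- A standard shape shares no radical with `z`. -/
theorem not_shared {A W : U6} (hp : Pair A W) {u k : G} (hu : F.TypP A W u)
    (hz : F.z ∈ conjS k F.Q) (huk : u ∈ conjS k F.Q) (hne : k * F.z * k⁻¹ ≠ F.z) : False := by
  obtain ⟨-, huQ, huD⟩ := F.typ_inv hp hu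
  have huz := (F.mem_D.1 huD).1
  have hy : k * F.z * k⁻¹ ∈ F.Q := by
    have h1 : k⁻¹ * F.z * k⁻¹⁻¹ ∈ F.Q := by rw [inv_inv]; exact mem_conjS.1 hz
    have h1' : k⁻¹ * F.z * k⁻¹⁻¹ ≠ F.z := fun e => hne (by
      conv_lhs => rw [← e]
      group)
    have h := mem_conjS.1 (F.T.data.mem_conj h1 h1' (by rw [F.T.card_Q]; norm_num))
    rwa [inv_inv] at h
  obtain ⟨g, hg, hgy⟩ := F.exists_conj_v hy
    (by calc k * F.z * k⁻¹ * (k * F.z * k⁻¹) = k * (F.z * F.z) * k⁻¹ := by group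
          _ = 1 := by rw [F.z_sq]; group)
    (fun e => F.z_ne (conj_eq_one_iff.mp e)) hne
  have hP : conjS (g * k) F.Q = F.P := F.T.data.conjS_eq_of_conj_eq (by
    rw [← show g * (k * F.z * k⁻¹) * g⁻¹ = g * k * F.T.z * (g * k)⁻¹ by simp only [Fr.z]; group]
    exact hgy)
  obtain ⟨q, hq, hqu⟩ := F.typ_comm_z hp hu
  have hz' : g * u * g⁻¹ * F.z = F.z * (g * u * g⁻¹) :=
    ((Commute.mul_left hg huz).mul_left (Commute.inv_left hg)).eq
  refine F.noZ (u := g * u * g⁻¹) ?_ hz' (fun h => huQ ((F.T.data.norm_iff g hg u).1 h))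
    (F.T.data.norm g hg q hq) ?_
  · rw [← hP, mem_conjS]
    have := mem_conjS.1 huk
    simpa [mul_assoc] using this
  · rw [show ⁅g * u * g⁻¹, g * q * g⁻¹⁆ = g * ⁅u, q⁆ * g⁻¹ by
      simp only [commutatorElement_def]; group, hqu]
    exact mul_inv_eq_iff_eq_mul.mpr hg

/-- An involution of `C(z)` is centralized by at least sixteen elements of the radical. -/
theorem card_cent {u : G} (hu : u * F.z = F.z * u) (h2' : u * u = 1) :
    16 ≤ Nat.card ↥(F.Q ⊓ Subgroup.centralizer ({u} : Set G)) := by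
  classical
  have hρ2 : F.T.ρ u * F.T.ρ u = 1 := by rw [← F.T.ρ_mul u u hu hu, h2', F.T.ρ_one]
  have hle := finrank_res_le hρ2
  choose rep hrepQ hrepc using F.T.c_surj
  set K := (F.Q ⊓ Subgroup.centralizer ({u} : Set G)).subgroupOf F.Q with hK
  have hKcard : Nat.card K = Nat.card ↥(F.Q ⊓ Subgroup.centralizer ({u} : Set G)) :=
    Nat.card_congr (Subgroup.subgroupOfEquivOfLe inf_le_left).toEquiv
  let R := LinearMap.range (gm (F.T.ρ u))
  have hmQ : ∀ q ∈ F.Q, ⁅u, q⁆ ∈ F.Q ∧ F.T.c ⁅u, q⁆ = gm (F.T.ρ u) (F.T.c q) := by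
    intro q hq
    have hm := F.T.data.norm u hu q hq
    refine ⟨by rw [commutatorElement_def]; exact mul_mem hm (inv_mem hq), ?_⟩
    rw [commutatorElement_def, F.T.c_mul _ hm _ (inv_mem hq), F.T.c_inv hq, F.T.ρ_conj u hu q hq,
      gm_apply]
  let f : ↥F.Q → R × Bool := fun q =>
    (⟨gm (F.T.ρ u) (F.T.c (q : G)), LinearMap.mem_range_self _ _⟩,
      decide (⁅u, (q : G)⁆ = rep (gm (F.T.ρ u) (F.T.c (q : G)))))
  have hf : ∀ q q' : ↥F.Q, f q = f q' → q⁻¹ * q' ∈ K := by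
    intro q q' h
    simp only [f, Prod.mk.injEq, Subtype.mk.injEq] at h
    obtain ⟨h1, h2⟩ := h
    obtain ⟨m1, c1⟩ := hmQ q q.2
    obtain ⟨m2, c2⟩ := hmQ q' q'.2
    rw [← h1] at c2 h2
    have heq : ⁅u, (q : G)⁆ = ⁅u, (q' : G)⁆ := by
      rcases F.T.c_eq (hrepQ _) m1 ((hrepc _).trans c1.symm) with e1 | e1 <;>
        rcases F.T.c_eq (hrepQ _) m2 ((hrepc _).trans c2.symm) with e2 | e2 <;>
        simp [e1, e2, F.T.z_ne] at h2 ⊢
    rw [hK, Subgroup.mem_subgroupOf, Subgroup.mem_inf, Subgroup.mem_centralizer_singleton_iff]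
    refine ⟨(q⁻¹ * q').2, ?_⟩
    rw [commutatorElement_def, commutatorElement_def] at heq
    have e' : (q : G) * u⁻¹ * (q : G)⁻¹ = (q' : G) * u⁻¹ * (q' : G)⁻¹ := by
      apply mul_left_cancel (a := u)
      simpa [mul_assoc] using heq
    have hi : u⁻¹ = u := inv_eq_of_mul_eq_one_right h2'
    rw [hi] at e'
    calc ((q⁻¹ * q' : ↥F.Q) : G) * u = (q : G)⁻¹ * ((q' : G) * u * (q' : G)⁻¹) * q' := by
          rw [Subgroup.coe_mul, Subgroup.coe_inv]; group
      _ = u * ((q⁻¹ * q' : ↥F.Q) : G) := by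
          rw [← e', Subgroup.coe_mul, Subgroup.coe_inv]; group
  let g : ↥F.Q ⧸ K → R × Bool := fun x => f x.out
  have hg : Function.Injective g := by
    intro x y h
    rw [← QuotientGroup.out_eq' x, ← QuotientGroup.out_eq' y]
    exact QuotientGroup.eq.mpr (hf _ _ h)
  have h1 := Nat.card_le_card_of_injective g hg
  rw [Nat.card_prod, Nat.card_eq_fintype_card (α := Bool), Fintype.card_bool,
    Module.natCard_eq_pow_finrank (K := ZMod 2) (V := R), Nat.card_zmod] at h1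
  have h16 : (2 : ℕ) ^ Module.finrank (ZMod 2) R ≤ 2 ^ 4 :=
    Nat.pow_le_pow_right (by norm_num) (by rw [show R = resSpace (F.T.ρ u) from range_gm _]; exact hle)
  have h3 := K.card_mul_index
  rw [Subgroup.index_eq_card, F.T.card_Q, hKcard] at h3
  have h32 : Nat.card (↥F.Q ⧸ K) ≤ 32 := by omega
  by_contra hlt
  push Not at hlt
  have := Nat.mul_le_mul (Nat.le_of_lt_succ hlt : Nat.card ↥(F.Q ⊓ Subgroup.centralizer ({u} : Set G)) ≤ 15) h32
  omega

theorem meet_trivial {A W : U6} (hp : Pair A W) {u h : G} (hu : F.TypP A W u)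
    (hh : h * F.z * h⁻¹ = u) (hu' : h⁻¹ * F.z * h ∉ F.Q) {y : G} (hy : y ∈ F.Q)
    (hy' : y ∈ conjS h F.Q) : y = 1 := by
  obtain ⟨hu2, huQ, huD⟩ := F.typ_inv hp hu
  have hnz : F.z ∉ conjS h F.Q := fun e => hu' (mem_conjS.1 e)
  have hDu : Data (conjS h F.Q) u := by
    rw [← hh]; exact F.T.data.conjugate h
  by_contra hy1
  rcases F.T.data.sq hy with hy2 | hy2
  · have hyz : y ≠ F.z := fun e => hnz (e ▸ hy')
    obtain ⟨g, hg, hgy⟩ := F.exists_conj_v hy hy2 hy1 hyz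
    have hky : g⁻¹ * F.h * F.z * (g⁻¹ * F.h)⁻¹ = y := by
      calc g⁻¹ * F.h * F.z * (g⁻¹ * F.h)⁻¹ = g⁻¹ * F.v * g := by simp only [Fr.v, Fr.z]; group
        _ = y := by rw [← hgy]; group
    have hzk : F.z ∈ conjS (g⁻¹ * F.h) F.Q := by
      rw [mem_conjS]
      have := mem_conjS.1 F.cfg.z_mem
      have e : (g⁻¹ * F.h)⁻¹ * F.z * (g⁻¹ * F.h) = F.h⁻¹ * F.z * F.h := by
        calc (g⁻¹ * F.h)⁻¹ * F.z * (g⁻¹ * F.h) = F.h⁻¹ * ((g * F.z) * g⁻¹) * F.h := by group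
          _ = _ := by rw [hg]; group
      rwa [e]
    have hm : h⁻¹ * (g⁻¹ * F.h) * F.z * (h⁻¹ * (g⁻¹ * F.h))⁻¹ ∈ F.Q := by
      rw [show h⁻¹ * (g⁻¹ * F.h) * F.z * (h⁻¹ * (g⁻¹ * F.h))⁻¹ = h⁻¹ * y * h by rw [← hky]; group]
      exact mem_conjS.1 hy'
    have hne : h⁻¹ * (g⁻¹ * F.h) * F.z * (h⁻¹ * (g⁻¹ * F.h))⁻¹ ≠ F.z := by
      rw [show h⁻¹ * (g⁻¹ * F.h) * F.z * (h⁻¹ * (g⁻¹ * F.h))⁻¹ = h⁻¹ * y * h by rw [← hky]; group]
      intro e
      refine huQ ?_
      rw [← hh, ← e]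
      rwa [show h * (h⁻¹ * y * h) * h⁻¹ = y by group]
    have huk : u ∈ conjS (g⁻¹ * F.h) F.Q := by
      have h3 := mem_conjS.1 (F.T.data.mem_conj hm hne (by rw [F.T.card_Q]; norm_num))
      rw [mem_conjS, ← hh]
      simpa [mul_assoc] using h3
    exact F.not_shared hp hu hzk huk (by rw [hky]; exact hyz)
  · rcases hDu.sq hy' with e | e
    · exact F.z_ne (hy2.symm.trans e)
    · exact huQ (by rw [← e, hy2]; exact F.T.data.z_mem)

/-- A standard shape is not conjugate to `z`. -/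
theorem typ_not_conj {A W : U6} (hp : Pair A W) (hfx : Fixed A W) {u : G} (hu : F.TypP A W u) :
    ¬ IsConj F.z u := by
  classical
  intro hcj
  obtain ⟨h, hh⟩ := isConj_iff.mp hcj
  obtain ⟨hu2, huQ, huD⟩ := F.typ_inv hp hu
  have huz := (F.mem_D.1 huD).1
  by_cases hQ : h⁻¹ * F.z * h ∈ F.Q
  · exact F.not_shared hp hu (mem_conjS.2 hQ) ⟨F.z, F.T.data.z_mem, by
      simpa [MulAut.conj_apply] using hh⟩ (by rw [hh]; exact fun e => huQ (e ▸ F.T.data.z_mem))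
  have hu'z : h⁻¹ * F.z * h * F.z = F.z * (h⁻¹ * F.z * h) := by
    calc h⁻¹ * F.z * h * F.z = h⁻¹ * (F.z * (h * F.z * h⁻¹)) * h := by group
      _ = h⁻¹ * ((h * F.z * h⁻¹) * F.z) * h := by rw [hh, huz]
      _ = _ := by group
  have hu'2 : h⁻¹ * F.z * h * (h⁻¹ * F.z * h) = 1 := by
    calc h⁻¹ * F.z * h * (h⁻¹ * F.z * h) = h⁻¹ * (F.z * F.z) * h := by group
      _ = 1 := by rw [F.z_sq]; group
  have hDu : Data (conjS h F.Q) u := by
    rw [← hh]; exact F.T.data.conjugate h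
  have hI := fun y => F.meet_trivial hp hu hh hQ (y := y)
  let K := conjS h (F.Q ⊓ Subgroup.centralizer ({h⁻¹ * F.z * h} : Set G))
  have hK : 16 ≤ Nat.card K := by
    rw [Subgroup.card_map_of_injective (MulAut.conj h).injective]
    exact F.card_cent hu'z hu'2
  have hKm : ∀ x ∈ K, x ∈ conjS h F.Q ∧ x * F.z = F.z * x ∧ x * u = u * x := by
    intro x hx
    obtain ⟨h1, h2⟩ := Subgroup.mem_inf.mp (mem_conjS.1 hx)
    refine ⟨mem_conjS.2 h1, ?_, hDu.z_central x (mem_conjS.2 h1)⟩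
    have h3 := congrArg (fun t => h * t * h⁻¹) (Subgroup.mem_centralizer_singleton_iff.1 h2)
    simpa [mul_assoc] using h3
  have hcom : ∀ x ∈ K, ∀ f ∈ F.Q, f * u = u * f → x * f = f * x := by
    intro x hx f hf hfu
    obtain ⟨hx1, hxz, hxu⟩ := hKm x hx
    rw [← commutatorElement_eq_one_iff_mul_comm]
    refine hI _ ?_ ?_
    · rw [commutatorElement_def]
      exact mul_mem (F.T.data.norm x hxz f hf) (inv_mem hf)
    · rw [commutatorElement_def, mul_assoc x f, mul_assoc x]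
      exact mul_mem hx1 (hDu.norm f hfu _ (inv_mem hx1))
  obtain ⟨a, ha, b, hb, huab, hκ, hθ⟩ := hu
  have hvu : F.v * u = u * F.v := ((F.mem_D.1 huD).2).symm
  have hfacts : ∀ x ∈ K, x ∈ F.D ∧ ((∀ t, F.lm x t = t) ∨ ∀ t, F.lm x t = L0 t) ∧
      (F.θ x = 0 ∨ F.θ x = A ∨ F.θ x = W ∨ F.θ x = A + W) := by
    intro x hx
    obtain ⟨hx1, hxz, hxu⟩ := hKm x hx
    have hxD : x ∈ F.D := F.mem_D.2 ⟨hxz, hcom x hx F.v F.hv hvu⟩
    have hperp : ∀ s : U6, bU s A = 0 → bU s W = 0 → F.lm x s = s ∧ bU s (F.θ x) = 0 := by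
      intro s h1 h2
      obtain ⟨c, hc, hcκ⟩ := F.κ_surj s
      have e := F.conj_A hc ha hb
      rw [hcκ, hκ, hθ, bU_add_right, h1, h2, add_zero, pw_zero, pw_zero, one_mul, mul_one, ← huab] at e
      have hcx := hcom x hx c (mem_A.mp hc).1 (mul_inv_eq_iff_eq_mul.mp e)
      refine ⟨?_, ?_⟩
      · rw [← hcκ, ← F.κ_lm hxD hc, hcx, mul_inv_cancel_right]
      · have hc1 := F.T.ρ_conj x hxz c (mem_A.mp hc).1
        rw [hcx, mul_inv_cancel_right] at hc1
        have hpl := polar_ap (F.T.ρ x) (F.T.c c) p0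
        rw [← hc1, polar_eq, polar_eq, F.cp_ap hxD, cp_p0, (F.mem_A_iff.1 hc).2, pu_p0,
          bU_zero_right, mul_one, zero_mul, zero_mul, add_zero, add_zero] at hpl
        rw [← hcκ]
        exact add_eq_left.mp hpl
    have hab : x * a * x⁻¹ * (x * b * x⁻¹) = a * b := by
      rw [← huab]
      calc x * a * x⁻¹ * (x * b * x⁻¹) = x * u * x⁻¹ := by rw [huab]; group
        _ = u := by rw [hxu, mul_inv_cancel_right]
    obtain ⟨e1, e2⟩ := F.eq_AB (F.A_norm hxD ha) ha (F.B_norm hxD hb) hb hab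
    rw [F.κ_lm hxD ha, hκ] at e1
    rw [F.θ_lm hxD hb, hθ] at e2
    exact ⟨hxD, hfx.maps (F.lm x) (F.lm_add x) (F.lm_bU hxD) (F.lm_qU hxD) e1 e2
      (fun s h1 h2 => (hperp s h1 h2).1), hfx.perp _ (fun s h1 h2 => (hperp s h1 h2).2)⟩
  let S : Finset U6 := {0, A, W, A + W}
  let φ : K → Bool × S := fun x =>
    (decide (∀ t, F.lm x.1 t = t), ⟨F.θ x.1, by simpa [S] using (hfacts x.1 x.2).2.2⟩)
  have hφ : Function.Injective φ := by
    rintro ⟨x, hx⟩ ⟨y, hy⟩ he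
    simp only [φ, Prod.mk.injEq, Subtype.mk.injEq] at he
    obtain ⟨he1, he2⟩ := he
    obtain ⟨hxD, hxL, -⟩ := hfacts x hx
    obtain ⟨hyD, hyL, -⟩ := hfacts y hy
    have hdD : x⁻¹ * y ∈ F.D := mul_mem (inv_mem hxD) hyD
    have hsame : ∀ t, F.lm x t = F.lm y t := by
      rw [decide_eq_decide] at he1
      rcases hxL with hxL | hxL
      · intro t; rw [hxL, (he1.1 hxL) t]
      · rcases hyL with hyL | hyL
        · intro t; rw [(he1.2 hyL) t, hyL]
        · intro t; rw [hxL, hyL]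
    have hdfix : ∀ t, F.lm (x⁻¹ * y) t = t := fun t => by
      rw [F.lm_mul (inv_mem hxD) hyD, ← hsame, ← F.lm_mul (inv_mem hxD) hxD, inv_mul_cancel,
        F.lm_one]
    have hθd : F.θ (x⁻¹ * y) = 0 := by
      have e := F.θ_mul_D hxD hdD
      rw [mul_inv_cancel_left, ← he2] at e
      have e0 : F.lm x (F.θ (x⁻¹ * y)) = 0 := add_eq_left.mp e.symm
      have := congrArg (F.lm x⁻¹) e0
      rwa [F.lm_zero, ← F.lm_mul (inv_mem hxD) hxD, inv_mul_cancel, F.lm_one] at this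
    obtain ⟨a', ha', b', hb', hab'⟩ := F.mem_AB_of_fix hdD hdfix
    have hθb : F.θ b' = 0 := by
      rw [hab', F.θ_mul_D (F.A_le_D ha') (F.B_le_D hb'), F.lm_A ha'] at hθd
      have hθa : F.θ a' = 0 := by rw [θ, F.T.ρ_Q (mem_A.mp ha').1, ap_one, pu_p0]
      rwa [hθa, zero_add] at hθd
    have hm : x⁻¹ * y ∈ F.Q := by
      rw [hab']; exact mul_mem (mem_A.mp ha').1 (F.θ_ker hb' hθb).1
    exact Subtype.ext (inv_mul_eq_one.mp
      (hI _ hm (mul_mem (inv_mem (hKm x hx).1) (hKm y hy).1)))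
  have hle := Nat.card_le_card_of_injective φ hφ
  rw [Nat.card_prod, Nat.card_eq_fintype_card (α := Bool), Fintype.card_bool,
    Nat.card_eq_fintype_card (α := ↥S), Fintype.card_coe] at hle
  have : S.card ≤ 4 := Finset.card_le_four
  omega

end Fr

end Cfsg.Agent.CoType
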