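/-
Sylow 2-subgroups of the centralizer of an involution of standard shape (helper22).

* `conj_AB` : conjugation inside `A B`; `exists_flip` : an element moving `v` to `v z`
* `exists_two_group` : a 2-group in `C(z, u)` centralized by no conjugate of `z` but `z`
* `sylow_central` : it puts `z` in the centre of a Sylow 2-subgroup of `C(u)`
* `typ_B_not_C` : the two standard shapes are not conjugate
-/
import Cfsg.Agent.Lib.CoType.Separate

set_option autoImplicit false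
open scoped commutatorElement

namespace Cfsg.Agent.CoType

open Cfsg.Agent.Orth Cfsg.Agent.LargeExtraspecial Cfsg.Agent.LargeExtraspecial.Cfg
open QuadraticMap (polar)

/-- The evaluations needed for a pair. -/
structure Tests (A W : U6) : Prop where
  flip : ∃ a : U6, qU a = 1 ∧ ∃ b : U6, qU b = 1 ∧ rU a (rU b W) = W ∧ rU a (rU b (A + W)) = A
  central : ∀ i j k l : ZMod 2, (i • A + j • W = 0 ∧ k • A + l • W = 0) ∨
    (i • A + j • W ≠ 0 ∧ k • A + l • W ≠ 0 ∧ i • A + j • W ≠ k • A + l • W) ∨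
    ∃ t : U6, ∃ s : U6, bU t (A + W) + bU A s = 0 ∧ bU t W + bU A s + bU s W = 0 ∧
      ¬ (bU t (i • A + j • W + (k • A + l • W)) + bU (i • A + j • W) s = 0 ∧
        bU t (k • A + l • W) + bU (i • A + j • W) s + bU s (k • A + l • W) = 0)

theorem testsB : Tests A0 W0 := ⟨exists_flip_b, by decide +kernel⟩
theorem testsC : Tests E0 E2 := ⟨exists_flip_c, by decide +kernel⟩

theorem span_or {A W w : U6} (h : w = 0 ∨ w = A ∨ w = W ∨ w = A + W) :
    ∃ i j : ZMod 2, w = i • A + j • W := by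
  rcases h with h | h | h | h
  exacts [⟨0, 0, by simp [h]⟩, ⟨1, 0, by simp [h]⟩, ⟨0, 1, by simp [h]⟩, ⟨1, 1, by simp [h]⟩]

variable {G : Type*} [Group G]

namespace Fr

variable (F : Fr G) [Finite G]

theorem vz_mul (i j i' j' : ZMod 2) : pw F.z i * pw F.v j * (pw F.z i' * pw F.v j') =
    pw F.z (i + i') * pw F.v (j + j') := by
  have h : Commute (pw F.v j) (pw F.z i') := pw_comm (pw F.v j) (F.T.Qz (pw_mem F.hv j)) i'
  rw [pw_add F.z_sq, pw_add F.v_sq, mul_assoc, ← mul_assoc (pw F.v j), h.eq]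
  group

theorem comm_BB {s b : G} (hs : s ∈ A F.P F.z) (hb : b ∈ A F.P F.z) :
    ⁅s, b⁆ = pw F.v (bU (F.θ s) (F.θ b)) := by
  obtain ⟨i, hi⟩ : ∃ i, ⁅b, s⁆ = pw F.v i := by
    rcases F.dP.comm b (mem_A.mp hb).1 s (mem_A.mp hs).1 with h | h <;> rw [h]
    exacts [⟨0, (pw_zero _).symm⟩, ⟨1, (pw_one _).symm⟩]
  have hcomm : ∀ k, s * pw F.v k = pw F.v k * s := fun k =>
    pw_comm s (F.dP.z_central s (mem_A.mp hs).1) k
  have h1 : s * b * (s * b) = ⁅b, s⁆ * (s * s) * (b * b) := by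
    calc s * b * (s * b) = s * ⁅b, s⁆ * s * (b * b) := by simp only [commutatorElement_def]; group
      _ = _ := by rw [hi, hcomm, mul_assoc (pw F.v i) s s]
  rw [F.sq_B (mul_mem hs hb), F.sq_B hs, F.sq_B hb, hi, ← pw_add F.v_sq, ← pw_add F.v_sq,
    F.θ_mul hs hb, qU_add] at h1
  have h2 := pw_inj F.v_ne h1
  have : i = bU (F.θ s) (F.θ b) := by linear_combination -h2
  rw [← commutatorElement_inv, hi, pw_inv F.v_sq, this]

theorem conj_AB {a1 b1 a b : G} (ha1 : a1 ∈ A F.Q F.v) (hb1 : b1 ∈ A F.P F.z)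
    (ha : a ∈ A F.Q F.v) (hb : b ∈ A F.P F.z) :
    a1 * b1 * (a * b) * (a1 * b1)⁻¹ = a * b *
      (pw F.z (bU (F.κ a1) (F.κ a + F.θ b) + bU (F.κ a) (F.θ b1)) *
        pw F.v (bU (F.κ a1) (F.θ b) + bU (F.κ a) (F.θ b1) + bU (F.θ b1) (F.θ b))) := by
  set k := bU (F.κ a) (F.θ b1) with hk
  set l := bU (F.θ b1) (F.θ b) with hl
  have e : b1 * (a * b) * b1⁻¹ = a * b * (pw F.z k * pw F.v (k + l)) := by
    have c1 := F.comm_ba ha hb1
    have c2 := F.comm_BB hb1 hb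
    rw [← hk] at c1
    rw [← hl] at c2
    have hd := mul_mem (F.A_le_D ha) (F.B_le_D hb)
    have hm : pw F.z k * pw F.v k * pw F.v l = pw F.z k * pw F.v (k + l) := by
      rw [mul_assoc, ← pw_add F.v_sq]
    have hf : a * pw F.v l = pw F.v l * a := pw_comm a (mem_A.mp ha).2 l
    calc b1 * (a * b) * b1⁻¹ = ⁅b1, a⁆ * (a * ⁅b1, b⁆) * b := by
          simp only [commutatorElement_def]; group
      _ = pw F.z k * pw F.v k * pw F.v l * (a * b) := by rw [c1, c2, hf]; group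
      _ = a * b * (pw F.z k * pw F.v (k + l)) := by rw [hm, F.D_fix_V hd]
  calc a1 * b1 * (a * b) * (a1 * b1)⁻¹ = a1 * (b1 * (a * b) * b1⁻¹) * a1⁻¹ := by group
    _ = a1 * (a * b) * (pw F.z k * pw F.v (k + l)) * a1⁻¹ := by rw [e]; group
    _ = a1 * (a * b) * a1⁻¹ * (pw F.z k * pw F.v (k + l)) := by
        rw [mul_assoc (a1 * (a * b)), ← F.D_fix_V (inv_mem (F.A_le_D ha1)), ← mul_assoc]
    _ = _ := by
        rw [F.conj_A ha1 ha hb, mul_assoc (a * b), F.vz_mul, add_assoc (bU (F.κ a1) (F.θ b))]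

/-- Members of the normalized group `A B`. -/
abbrev R : Subgroup G := Cfg.A F.P F.z ⊔ Cfg.A F.Q F.v

theorem R_le_D {x : G} (hx : x ∈ F.R) : x ∈ F.D :=
  F.mem_D.2 (F.cfg.R_centralizes hx)

theorem R_pGroup : IsPGroup 2 F.R := by
  intro x
  refine ⟨2, Subtype.ext ?_⟩
  have h := F.cfg.E_sq (F.cfg.R_comm_mem x.2 x.2).2
  rw [SubmonoidClass.coe_pow, show (2 : ℕ) ^ 2 = 2 + 2 from rfl, pow_add, h]
  rfl

theorem conj_R_D {d x : G} (hd : d ∈ F.D) (hx : x ∈ F.R) : d * x * d⁻¹ ∈ F.R := by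
  obtain ⟨a, ha, b, hb, rfl⟩ := F.cfg.mem_R.mp hx
  exact F.cfg.mem_R.mpr ⟨_, F.A_norm hd ha, _, F.B_norm hd hb, by group⟩

theorem exists_flip {A W : U6} (hp : Pair A W) (ht : Tests A W) {u : G} (hu : F.TypP A W u) :
    ∃ f, f * F.z = F.z * f ∧ f * u = u * f ∧ f * F.v * f⁻¹ = F.v * F.z ∧
      f ∈ Subgroup.normalizer (F.R : Set G) := by
  have hu0 := hu
  obtain ⟨a, ha, b, hb, rfl, hκ, hθ⟩ := hu
  obtain ⟨p, hp', hpc, a', ha', he, hκ'⟩ := F.shift ha hb
  obtain ⟨x, hx, y, hy, hfW, hfA⟩ := ht.flip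
  obtain ⟨d, hd, hρ⟩ := F.exists_D hx hy
  have hu' : F.TypP A W (d * p * (a * b) * (d * p)⁻¹) :=
    ⟨d * a' * d⁻¹, F.A_norm hd ha', d * b * d⁻¹, F.B_norm hd hb, by
      calc d * p * (a * b) * (d * p)⁻¹ = d * (p * (a * b) * p⁻¹) * d⁻¹ := by group
        _ = _ := by rw [he]; group,
      by rw [F.κ_conj_D hx hy hd hρ (mem_A.mp ha').1, hκ', hκ, hθ, hfA],
      by rw [F.θ_conj hd hb hx hy hρ, hθ, hfW]⟩
  obtain ⟨s, hs, hsu⟩ := F.typ_conj hp hu' hu0
  have hsD := F.A_le_D hs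
  have hsd := mul_mem hsD hd
  refine ⟨s * d * p, (Commute.mul_left (F.mem_D.1 hsd).1 (F.T.Qz hp')).eq, ?_, ?_, ?_⟩
  · refine mul_inv_eq_iff_eq_mul.mp ?_
    conv_rhs => rw [← hsu]
    group
  · calc s * d * p * F.v * (s * d * p)⁻¹ = s * d * (p * F.v * p⁻¹) * (s * d)⁻¹ := by group
      _ = _ := by
        rw [F.conj_p hp' hpc]
        exact mul_inv_eq_iff_eq_mul.mpr
          ((show Commute (s * d) F.v from (F.mem_D.1 hsd).2).mul_right (F.mem_D.1 hsd).1).eq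
  · rw [Subgroup.mem_normalizer_iff]
    intro t
    constructor
    · intro h
      have := F.conj_R_D hsd (F.cfg.conj_R hp' h)
      rwa [show s * d * (p * t * p⁻¹) * (s * d)⁻¹ = s * d * p * t * (s * d * p)⁻¹ by group] at this
    · intro h
      have := F.cfg.conj_R (inv_mem hp') (F.conj_R_D (inv_mem hsd) h)
      rwa [show p⁻¹ * ((s * d)⁻¹ * (s * d * p * t * (s * d * p)⁻¹) * (s * d)⁻¹⁻¹) * p⁻¹⁻¹ = t by
        group] at this

/-- A 2-group in `C(z, u)` centralized by no conjugate of `z` other than `z`. -/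
theorem exists_two_group {A W : U6} (hp : Pair A W) (hfx : Fixed A W) (ht : Tests A W) {u : G}
    (hu : F.TypP A W u) :
    ∃ T : Subgroup G, IsPGroup 2 T ∧ (∀ t ∈ T, t * u = u * t ∧ t * F.z = F.z * t) ∧
      ∀ y, IsConj F.z y → y * u = u * y → (∀ t ∈ T, t * y = y * t) → y = F.z := by
  haveI : Fact (Nat.Prime 2) := ⟨Nat.prime_two⟩
  obtain ⟨f, hfz, hfu, hfv, hfN⟩ := F.exists_flip hp ht hu
  obtain ⟨hu2, huQ, huD⟩ := F.typ_inv hp hu
  set K := F.R ⊓ Subgroup.centralizer ({u} : Set G) with hK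
  -- the two-part of the flip
  obtain ⟨k, m, hm, hkm⟩ := Nat.exists_eq_two_pow_mul_odd (orderOf_pos f).ne'
  set f' := f ^ m with hf'
  have hf'2 : IsPGroup 2 (Subgroup.zpowers f') := by
    have h1 : f' ^ 2 ^ k = 1 := by
      rw [hf', ← pow_mul, mul_comm m, ← hkm, pow_orderOf_eq_one]
    obtain ⟨j, -, hj⟩ := (Nat.dvd_prime_pow Nat.prime_two).1 (orderOf_dvd_of_pow_eq_one h1)
    exact IsPGroup.of_card (n := j) (by rw [Nat.card_zpowers, hj])
  have hf'v : f' * F.v * f'⁻¹ = F.v * F.z := by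
    obtain ⟨j, rfl⟩ := hm
    have hff : f * f * F.v * (f * f)⁻¹ = F.v := by
      calc f * f * F.v * (f * f)⁻¹ = f * (f * F.v * f⁻¹) * f⁻¹ := by group
        _ = f * F.v * (F.z * f⁻¹) := by rw [hfv]; group
        _ = f * F.v * f⁻¹ * F.z := by rw [← (Commute.inv_left hfz).eq]; group
        _ = F.v := by rw [hfv, mul_assoc, F.z_sq, mul_one]
    have hj : ∀ i : ℕ, (f * f) ^ i * F.v * ((f * f) ^ i)⁻¹ = F.v := by
      intro i
      induction i with
      | zero => simp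
      | succ i ih =>
        calc (f * f) ^ (i + 1) * F.v * ((f * f) ^ (i + 1))⁻¹
            = (f * f) ^ i * (f * f * F.v * (f * f)⁻¹) * ((f * f) ^ i)⁻¹ := by
              rw [pow_succ]; group
          _ = F.v := by rw [hff, ih]
    rw [hf', pow_succ', pow_mul, pow_two]
    calc f * (f * f) ^ j * F.v * (f * (f * f) ^ j)⁻¹
        = f * ((f * f) ^ j * F.v * ((f * f) ^ j)⁻¹) * f⁻¹ := by group
      _ = F.v * F.z := by rw [hj, hfv]
  have hf'mem : f' ∈ Subgroup.centralizer ({u} : Set G) :=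
    pow_mem (Subgroup.mem_centralizer_singleton_iff.2 hfu) m
  have hf'z : f' ∈ Subgroup.centralizer ({F.z} : Set G) :=
    pow_mem (Subgroup.mem_centralizer_singleton_iff.2 hfz) m
  have hnK : Subgroup.zpowers f' ≤ Subgroup.normalizer (K : Set G) := by
    rw [Subgroup.zpowers_le]
    have hN : f' ∈ Subgroup.normalizer (F.R : Set G) := pow_mem hfN m
    rw [Subgroup.mem_normalizer_iff] at hN ⊢
    intro t
    have hc := Subgroup.mem_centralizer_singleton_iff.1 hf'mem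
    rw [hK, Subgroup.mem_inf, Subgroup.mem_inf, hN t, Subgroup.mem_centralizer_singleton_iff,
      Subgroup.mem_centralizer_singleton_iff]
    refine and_congr_right fun _ => ⟨fun h => ?_, fun h => ?_⟩
    · exact ((Commute.mul_left hc h).mul_left (Commute.inv_left hc)).eq
    · have := ((Commute.mul_left (Commute.inv_left hc) h).mul_left hc).eq
      simpa [mul_assoc] using this
  have hK2 : IsPGroup 2 K := F.R_pGroup.to_le inf_le_left
  refine ⟨Subgroup.zpowers f' ⊔ K, hf'2.to_sup_of_normal_right' hK2 hnK, ?_, ?_⟩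
  · have hle : Subgroup.zpowers f' ⊔ K ≤
        Subgroup.centralizer ({u} : Set G) ⊓ Subgroup.centralizer ({F.z} : Set G) := by
      refine sup_le ?_ ?_
      · rw [Subgroup.zpowers_le]; exact ⟨hf'mem, hf'z⟩
      · rintro t ⟨h1, h2⟩
        exact ⟨h2, Subgroup.mem_centralizer_singleton_iff.2 (F.cfg.R_centralizes h1).1⟩
    intro t ht
    obtain ⟨h1, h2⟩ := Subgroup.mem_inf.1 (hle ht)
    exact ⟨Subgroup.mem_centralizer_singleton_iff.1 h1, Subgroup.mem_centralizer_singleton_iff.1 h2⟩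
  intro y hy hyu hyT
  have hKy : ∀ t ∈ F.R, t * u = u * t → t * y = y * t := fun t h1 h2 =>
    hyT t (Subgroup.mem_sup_right ⟨h1, Subgroup.mem_centralizer_singleton_iff.2 h2⟩)
  have hyD : y ∈ F.D := F.mem_D.2
    ⟨(hKy _ F.cfg.z_mem_R (F.mem_D.1 huD).1.symm).symm,
      (hKy _ F.cfg.s_mem_R (F.mem_D.1 huD).2.symm).symm⟩
  have hy2 : y * y = 1 := by
    obtain ⟨g, rfl⟩ := isConj_iff.1 hy
    exact conj_invol F.z_sq
  obtain ⟨a, ha, b, hb, huab, hκ, hθ⟩ := hu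
  -- solutions
  have hsolve : ∀ t s : U6, bU t (A + W) + bU A s = 0 → bU t W + bU A s + bU s W = 0 →
      ∃ a1 ∈ Cfg.A F.Q F.v, ∃ b1 ∈ Cfg.A F.P F.z, F.κ a1 = t ∧ F.θ b1 = s ∧
        a1 * b1 * y = y * (a1 * b1) := by
    intro t s h1 h2
    obtain ⟨a1, ha1, hκ1⟩ := F.κ_surj t
    obtain ⟨b1, hb1, hθ1⟩ := F.θ_surj s
    refine ⟨a1, ha1, b1, hb1, hκ1, hθ1, hKy _ (F.cfg.mem_R.mpr ⟨a1, ha1, b1, hb1, rfl⟩) ?_⟩
    have e := F.conj_AB ha1 hb1 ha hb
    rw [hκ1, hθ1, hκ, hθ, h1, h2, pw_zero, pw_zero, one_mul, mul_one, ← huab] at e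
    exact mul_inv_eq_iff_eq_mul.mp e
  have hfix : ∀ t, F.lm y t = t := by
    intro t
    obtain ⟨s, h1, h2⟩ : ∃ s, bU t (A + W) + bU A s = 0 ∧ bU t W + bU A s + bU s W = 0 := by
      obtain ⟨s, hs1, hs2⟩ := hp.sep (bU t (A + W) + (bU t (A + W) + bU t W)) (bU t (A + W) + bU t W)
      rw [bU_add_right] at hs1
      have h20 : (2 : ZMod 2) = 0 := rfl
      refine ⟨s, ?_, ?_⟩
      · rw [bU_comm A s]
        linear_combination hs1 - hs2 + (bU t (A + W)) * h20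
      · rw [bU_comm A s]
        linear_combination hs1 + (bU t (A + W) + bU t W) * h20
    obtain ⟨a1, ha1, b1, hb1, hκ1, -, hc⟩ := hsolve t s h1 h2
    have hab : y * a1 * y⁻¹ * (y * b1 * y⁻¹) = a1 * b1 := by
      calc y * a1 * y⁻¹ * (y * b1 * y⁻¹) = y * (a1 * b1) * y⁻¹ := by group
        _ = _ := by rw [← hc, mul_inv_cancel_right]
    obtain ⟨e1, -⟩ := F.eq_AB (F.A_norm hyD ha1) ha1 (F.B_norm hyD hb1) hb1 hab
    rwa [F.κ_lm hyD ha1, hκ1] at e1
  obtain ⟨a', ha', b', hb', rfl⟩ := F.mem_AB_of_fix hyD hfix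
  have heqs : ∀ t s : U6, bU t (A + W) + bU A s = 0 → bU t W + bU A s + bU s W = 0 →
      bU t (F.κ a' + F.θ b') + bU (F.κ a') s = 0 ∧
        bU t (F.θ b') + bU (F.κ a') s + bU s (F.θ b') = 0 := by
    intro t s h1 h2
    obtain ⟨a1, ha1, b1, hb1, hκ1, hθ1, hc⟩ := hsolve t s h1 h2
    have e := F.conj_AB ha1 hb1 ha' hb'
    rw [hκ1, hθ1, hc, mul_inv_cancel_right] at e
    exact F.vz_inj (i' := 0) (j' := 0) ((mul_eq_left.mp e.symm).trans (by simp))
  have hperp : ∀ s : U6, bU s A = 0 → bU s W = 0 →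
      bU (F.κ a') s = 0 ∧ bU s (F.θ b') = 0 := by
    intro s h1 h2
    have e := heqs 0 s (by rw [bU_zero_left, bU_comm, h1, add_zero])
      (by rw [bU_zero_left, bU_comm A, h1, h2]; simp)
    simp only [bU_zero_left, zero_add] at e
    exact ⟨e.1, by linear_combination e.2 - e.1⟩
  obtain ⟨i, j, hij⟩ := span_or (hfx.perp _ fun s h1 h2 => by rw [bU_comm]; exact (hperp s h1 h2).1)
  obtain ⟨k', l, hkl⟩ := span_or (hfx.perp _ fun s h1 h2 => (hperp s h1 h2).2)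
  rcases ht.central i j k' l with ⟨h1, h2⟩ | ⟨h1, h2, h3⟩ | ⟨t, s, h1, h2, h3⟩
  · -- the four group
    rw [← hij] at h1; rw [← hkl] at h2
    obtain ⟨i', j', he⟩ := F.E_inV (mul_mem (F.ker_κ ha' h1) (F.θ_ker hb' h2))
    have hne : a' * b' ≠ 1 := by
      obtain ⟨g, hg⟩ := isConj_iff.1 hy
      rw [← hg]; exact fun e => F.z_ne (conj_eq_one_iff.mp e)
    have hzc : f' * F.z * f'⁻¹ = F.z :=
      mul_inv_eq_iff_eq_mul.mpr (Subgroup.mem_centralizer_singleton_iff.1 hf'z)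
    have hfy : f' * (a' * b') * f'⁻¹ = a' * b' := mul_inv_eq_iff_eq_mul.mpr
      (hyT f' (Subgroup.mem_sup_left (Subgroup.mem_zpowers f')))
    rw [he] at hfy hne ⊢
    rw [show f' * (pw F.z i' * pw F.v j') * f'⁻¹ = (f' * pw F.z i' * f'⁻¹) * (f' * pw F.v j' * f'⁻¹) by
      group, pw_map, pw_map, hzc, hf'v] at hfy
    rcases z2 j' with rfl | rfl
    · rcases z2 i' with rfl | rfl
      · exact absurd (by simp) hne
      · simp
    · exfalso
      rw [pw_one, pw_one] at hfy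
      exact F.z_ne (mul_eq_left.mp (mul_left_cancel hfy))
  · -- a standard shape
    rw [← hij] at h1 h3; rw [← hkl] at h2 h3
    obtain ⟨g, hg, ⟨h4, -⟩ | ⟨-, h4⟩⟩ := F.classify_AB ha' hb' h2 hy2
    · exact absurd h4 (by push Not; exact ⟨h1, h3⟩)
    · have hc : IsConj F.z (g * (a' * b') * g⁻¹) := hy.trans (isConj_iff.2 ⟨g, rfl⟩)
      rcases h4 with h4 | h4
      · exact absurd hc (F.typ_not_conj pairB fixedB h4)
      · exact absurd hc (F.typ_not_conj pairC fixedC h4)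
  · rw [← hij, ← hkl] at h3
    exact absurd (heqs t s h1 h2) h3

/-- `z` is central in a Sylow 2-subgroup of the centralizer of a standard shape. -/
theorem sylow_central {A W : U6} (hp : Pair A W) (hfx : Fixed A W) (ht : Tests A W) {u : G}
    (hu : F.TypP A W u) :
    ∃ S : Sylow 2 ↥(Subgroup.centralizer ({u} : Set G)), ∀ s ∈ (S : Subgroup ↥(Subgroup.centralizer ({u} : Set G))),
      (s : G) * F.z = F.z * s := by
  haveI : Fact (Nat.Prime 2) := ⟨Nat.prime_two⟩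
  obtain ⟨T, hT, hTc, hTy⟩ := F.exists_two_group hp hfx ht hu
  obtain ⟨-, -, huD⟩ := F.typ_inv hp hu
  set C := Subgroup.centralizer ({u} : Set G) with hC
  have hTC : T ≤ C := fun t h => Subgroup.mem_centralizer_singleton_iff.2 (hTc t h).1
  have hT' : IsPGroup 2 (T.subgroupOf C) := hT.of_equiv (Subgroup.subgroupOfEquivOfLe hTC).symm
  obtain ⟨S, hS⟩ := hT'.exists_le_sylow
  refine ⟨S, ?_⟩
  by_contra hcon
  push Not at hcon
  set T1 : Subgroup ↥(S : Subgroup ↥C) :=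
    ((Subgroup.centralizer ({F.z} : Set G)).subgroupOf C).subgroupOf (S : Subgroup ↥C) with hT1
  have hlt : T1 < ⊤ := by
    rw [lt_top_iff_ne_top]
    intro h
    obtain ⟨s, hs, hne⟩ := hcon
    exact hne (Subgroup.mem_centralizer_singleton_iff.1
      (show (s : G) ∈ Subgroup.centralizer ({F.z} : Set G) from
        (h ▸ Subgroup.mem_top (⟨s, hs⟩ : ↥(S : Subgroup ↥C)) : ⟨s, hs⟩ ∈ T1)))
  haveI := S.2.isNilpotent
  obtain ⟨n, hn, hn'⟩ := SetLike.exists_of_lt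
    (Group.normalizerCondition_of_isNilpotent T1 hlt)
  set ng : G := ((n : ↥C) : G) with hng
  have hnu : ng * u = u * ng := Subgroup.mem_centralizer_singleton_iff.1 (n : ↥C).2
  have hzu : F.z * u = u * F.z := (F.mem_D.1 huD).1.symm
  have hy : ng * F.z * ng⁻¹ = F.z := by
    refine hTy _ (isConj_iff.2 ⟨ng, rfl⟩) ((Commute.mul_left hnu hzu).mul_left
      (Commute.inv_left hnu)).eq fun t ht => ?_
    obtain ⟨htu, htz⟩ := hTc t ht
    let tS : ↥(S : Subgroup ↥C) := ⟨⟨t, hTC ht⟩, hS (Subgroup.mem_subgroupOf.2 ht)⟩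
    have htT : tS ∈ T1 := Subgroup.mem_centralizer_singleton_iff.2 htz
    have hm : n⁻¹ * tS * n ∈ T1 := by
      refine ((Subgroup.mem_normalizer_iff.1 hn) _).2 ?_
      simpa [mul_assoc] using htT
    have hm' : ng⁻¹ * t * ng * F.z = F.z * (ng⁻¹ * t * ng) :=
      Subgroup.mem_centralizer_singleton_iff.1
        (show ((( n⁻¹ * tS * n : ↥(S : Subgroup ↥C)) : ↥C) : G) ∈
          Subgroup.centralizer ({F.z} : Set G) from hm)
    have e := congrArg (fun r => ng * r * ng⁻¹) hm'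
    simpa [mul_assoc] using e
  exact hn' (Subgroup.mem_centralizer_singleton_iff.2 (mul_inv_eq_iff_eq_mul.mp hy))

/-- The two standard shapes are not conjugate. -/
theorem typ_B_not_C {u w : G} (hu : F.TypP A0 W0 u) (hw : F.TypP E0 E2 w) : ¬ IsConj u w := by
  haveI : Fact (Nat.Prime 2) := ⟨Nat.prime_two⟩
  intro hc
  obtain ⟨h, hh⟩ := isConj_iff.1 hc.symm
  obtain ⟨S, hS⟩ := F.sylow_central pairB fixedB testsB hu
  obtain ⟨T, hT, hTc, hTy⟩ := F.exists_two_group pairC fixedC testsC hw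
  have hTC : T.map (MulAut.conj h).toMonoidHom ≤ Subgroup.centralizer ({u} : Set G) := by
    rintro _ ⟨t, ht, rfl⟩
    rw [Subgroup.mem_centralizer_singleton_iff, ← hh]
    calc h * t * h⁻¹ * (h * w * h⁻¹) = h * (t * w) * h⁻¹ := by group
      _ = _ := by rw [(hTc t ht).1]; simp [mul_assoc]
  have hT' : IsPGroup 2 ((T.map (MulAut.conj h).toMonoidHom).subgroupOf (Subgroup.centralizer ({u} : Set G))) :=
    (hT.map _).of_equiv (Subgroup.subgroupOfEquivOfLe hTC).symm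
  obtain ⟨S', hS'⟩ := hT'.exists_le_sylow
  obtain ⟨c, hcS⟩ := MulAction.exists_smul_eq ↥(Subgroup.centralizer ({u} : Set G)) S S'
  have hcu : (c : G) * u = u * c := Subgroup.mem_centralizer_singleton_iff.1 c.2
  obtain ⟨-, -, huD⟩ := F.typ_inv pairB hu
  have hwe : w = h⁻¹ * u * h := by rw [← hh]; group
  have hyz : h⁻¹ * (c : G) * F.z * (h⁻¹ * (c : G))⁻¹ = F.z := by
    refine hTy _ (isConj_iff.2 ⟨_, rfl⟩) ?_ fun t ht => ?_
    · have h1 : (c : G) * F.z * (c : G)⁻¹ * u = u * ((c : G) * F.z * (c : G)⁻¹) :=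
        ((Commute.mul_left hcu (F.mem_D.1 huD).1.symm).mul_left (Commute.inv_left hcu)).eq
      have e := congrArg (fun r => h⁻¹ * r * h) h1
      rw [hwe]
      simpa [mul_assoc] using e
    · have hm : (⟨h * t * h⁻¹, hTC ⟨t, ht, rfl⟩⟩ : ↥(Subgroup.centralizer ({u} : Set G))) ∈ (S' : Subgroup ↥(Subgroup.centralizer ({u} : Set G))) :=
        hS' (Subgroup.mem_subgroupOf.2 ⟨t, ht, rfl⟩)
      rw [← hcS] at hm
      obtain ⟨s, hs, hse⟩ := hm
      have hse' : (c : G) * (s : G) * (c : G)⁻¹ = h * t * h⁻¹ := congrArg Subtype.val hse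
      have h1 : h * t * h⁻¹ * ((c : G) * F.z * (c : G)⁻¹) =
          (c : G) * F.z * (c : G)⁻¹ * (h * t * h⁻¹) := by
        rw [← hse']
        calc (c : G) * (s : G) * (c : G)⁻¹ * ((c : G) * F.z * (c : G)⁻¹)
            = (c : G) * ((s : G) * F.z) * (c : G)⁻¹ := by group
          _ = (c : G) * (F.z * (s : G)) * (c : G)⁻¹ := by rw [hS s hs]
          _ = _ := by group
      have e := congrArg (fun r => h⁻¹ * r * h) h1
      simpa [mul_assoc] using e
  set k := h⁻¹ * (c : G) with hk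
  have hkz : k * F.z = F.z * k := mul_inv_eq_iff_eq_mul.mp hyz
  refine F.not_sing_B hu (F.sing_conj hkz ?_)
  rw [show k * u * k⁻¹ = w by
    rw [hk, hwe]
    calc h⁻¹ * (c : G) * u * (h⁻¹ * (c : G))⁻¹ = h⁻¹ * ((c : G) * u * (c : G)⁻¹) * h := by group
      _ = _ := by rw [hcu, mul_inv_cancel_right]]
  exact F.sing_C hw

end Fr

end Cfsg.Agent.CoType
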