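/-
Involutions acting as `L0` on the middle layer are fused to the known shapes (helper22).

* `Vals` : the four functionals of such an involution on the fixed plane
* `exists_ref` : a conjugate of `z` among them with trivial side, and its partner
* `reduce` : conjugation to an involution of `C(z)` of known shape
-/
import Cfsg.Agent.Lib.CoType.Sylow

set_option autoImplicit false
open scoped commutatorElement

namespace Cfsg.Agent.CoType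

open Cfsg.Agent.Orth Cfsg.Agent.LargeExtraspecial Cfsg.Agent.LargeExtraspecial.Cfg
open QuadraticMap (polar)

/-- A functional on the fixed plane. -/
def dot (p : ZMod 2 × ZMod 2) (x : U6) : ZMod 2 := p.1 * x 4 + p.2 * x 5

theorem L0_fix' : ∀ t : U6, L0 t = t → t 1 = 0 ∧ t 3 = 0 := by decide +kernel

theorem L0_fix {t : U6} (h : L0 t = t) : t 1 = 0 ∧ t 3 = 0 := L0_fix' t h

theorem bU_fixed {x s : U6} (hx : L0 x = x) (hs : L0 s = s) :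
    bU x s = x 4 * s 5 + x 5 * s 4 := by
  obtain ⟨a, b⟩ := L0_fix hx
  obtain ⟨c, d⟩ := L0_fix hs
  simp [bU, a, b, c, d]

theorem qU_fixed {x : U6} (hx : L0 x = x) : qU x = x 4 * x 5 := by
  obtain ⟨a, b⟩ := L0_fix hx
  simp [qU, a, b]

theorem L0_E4 : L0 E4 = E4 := by decide +kernel
theorem L0_E5 : L0 E5 = E5 := by decide +kernel

theorem plane' : ∀ g k t s r : ZMod 2 × ZMod 2,
    (k.1 ≠ 0 ∨ k.2 ≠ 0) → (r.1 ≠ 0 ∨ r.2 ≠ 0) →
    g.1 * k.2 + g.2 * k.1 + (k.1 * r.1 + k.2 * r.2) + (k.2 * k.1 + (k.2 * r.2 + k.1 * r.1)) = 0 →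
    g.1 * r.1 + g.2 * r.2 + (r.1 * r.2 + (k.2 * r.2 + k.1 * r.1)) = 0 →
    g.1 * t.1 + g.2 * t.2 + (k.1 * s.1 + k.2 * s.2) + (t.1 * t.2 + (t.1 * s.2 + t.2 * s.1)) = 0 →
    g.1 * s.1 + g.2 * s.2 + (s.1 * s.2 + (t.1 * s.2 + t.2 * s.1)) = 0 →
    (s.2 = 0 ∧ s.1 = 0) ∨ (k.1 + t.2 = 0 ∧ k.2 + t.1 = 0) ∨
      (k.1 + t.2 + s.2 = 0 ∧ k.2 + t.1 + s.1 = 0) := by
  decide +kernel

/-- The decisive evaluation on the plane. -/
theorem plane (g0 g1 k0 k1 t4 t5 s4 s5 r4 r5 : ZMod 2) :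
    (k0 ≠ 0 ∨ k1 ≠ 0) → (r4 ≠ 0 ∨ r5 ≠ 0) →
    g0 * k1 + g1 * k0 + (k0 * r4 + k1 * r5) + (k1 * k0 + (k1 * r5 + k0 * r4)) = 0 →
    g0 * r4 + g1 * r5 + (r4 * r5 + (k1 * r5 + k0 * r4)) = 0 →
    g0 * t4 + g1 * t5 + (k0 * s4 + k1 * s5) + (t4 * t5 + (t4 * s5 + t5 * s4)) = 0 →
    g0 * s4 + g1 * s5 + (s4 * s5 + (t4 * s5 + t5 * s4)) = 0 →
    (s5 = 0 ∧ s4 = 0) ∨ (k0 + t5 = 0 ∧ k1 + t4 = 0) ∨ (k0 + t5 + s5 = 0 ∧ k1 + t4 + s4 = 0) :=
  plane' (g0, g1) (k0, k1) (t4, t5) (s4, s5) (r4, r5)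

variable {G : Type*} [Group G]

namespace Fr

variable (F : Fr G) [Finite G]

theorem κ_four (i j : ZMod 2) : F.κ (pw F.z i * pw F.v j) = 0 := by
  rw [F.κ_mul (pw_mem F.T.data.z_mem i) (pw_mem F.hv j)]
  have k1 : F.κ (pw F.z i) = 0 := by
    rcases z2 i with rfl | rfl <;> simp [κ, F.T.c_one, F.T.c_z, pu_zero]
  have k2 : F.κ (pw F.v j) = 0 := by
    rcases z2 j with rfl | rfl
    · simp [κ, F.T.c_one, pu_zero]
    · rw [pw_one, κ, show F.T.c F.v = v0 from F.cv, pu_v0]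
  rw [k1, k2, add_zero]

theorem comm_mul_D {u x y : G} (hx : x ∈ F.D) (hy : ⁅u, y⁆ ∈ F.Q ⊓ F.P) :
    ⁅u, x * y⁆ = ⁅u, x⁆ * ⁅u, y⁆ := by
  have h := F.V_fix hx hy
  calc ⁅u, x * y⁆ = ⁅u, x⁆ * (x * ⁅u, y⁆ * x⁻¹) := by simp only [commutatorElement_def]; group
    _ = _ := by rw [h, mul_inv_cancel_right]

theorem exists_dot {u : G} (hu : u ∈ F.D) (h2 : u * u = 1) (H : Subgroup G) (χ : G → U6)
    (hD : ∀ x ∈ H, x ∈ F.D) (hmul : ∀ x ∈ H, ∀ y ∈ H, χ (x * y) = χ x + χ y)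
    (hsurj : ∀ t, ∃ x ∈ H, χ x = t) (hker : ∀ x ∈ H, χ x = 0 → x ∈ F.Q ⊓ F.P)
    (hconj : ∀ x ∈ H, u * x * u⁻¹ ∈ H ∧ χ (u * x * u⁻¹) = L0 (χ x))
    (hsq : ∀ x ∈ H, qU (χ x) = 0 → x * x = 1) :
    ∃ g th, ∀ x ∈ H, L0 (χ x) = χ x →
      ⁅u, x⁆ = pw F.z (dot g (χ x)) * pw F.v (dot th (χ x)) := by
  have h1 : χ 1 = 0 := by
    have h := hmul 1 (one_mem _) 1 (one_mem _)
    rw [mul_one] at h
    exact add_eq_left.mp h.symm
  have hinv : ∀ x ∈ H, χ x⁻¹ = χ x := by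
    intro x hx
    have h := hmul x hx x⁻¹ (inv_mem hx)
    rw [mul_inv_cancel, h1] at h
    exact (eq_neg_of_add_eq_zero_right h.symm).trans (ZModModule.neg_eq_self _)
  have hcm : ∀ x ∈ H, ⁅u, x⁆ ∈ H ∧ χ ⁅u, x⁆ = L0 (χ x) + χ x := by
    intro x hx
    obtain ⟨m, e⟩ := hconj x hx
    rw [commutatorElement_def]
    exact ⟨mul_mem m (inv_mem hx), by rw [hmul _ m _ (inv_mem hx), e, hinv x hx]⟩
  have hE : ∀ x ∈ H, L0 (χ x) = χ x → ⁅u, x⁆ ∈ F.Q ⊓ F.P := fun x hx h =>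
    hker _ (hcm x hx).1 (by rw [(hcm x hx).2, h, ZModModule.add_self])
  have congr : ∀ x ∈ H, ∀ y ∈ H, χ x = χ y → ⁅u, x⁆ = ⁅u, y⁆ := by
    intro x hx y hy h
    have he : x⁻¹ * y ∈ F.Q ⊓ F.P := hker _ (mul_mem (inv_mem hx) hy) (by
      rw [hmul _ (inv_mem hx) _ hy, hinv x hx, h, ZModModule.add_self])
    have h0 : ⁅u, x⁻¹ * y⁆ = 1 := commutatorElement_eq_one_iff_mul_comm.mpr (F.V_fix hu he)
    calc ⁅u, x⁆ = ⁅u, x * (x⁻¹ * y)⁆ := by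
          rw [F.comm_mul_D (hD x hx) (by rw [h0]; exact one_mem _), h0, mul_one]
      _ = ⁅u, y⁆ := by rw [mul_inv_cancel_left]
  have vanish : ∀ s e : U6, L0 s + s = e → qU e = 0 → ∃ x ∈ H, χ x = e ∧ ⁅u, x⁆ = 1 := by
    intro s e hse hqe
    obtain ⟨x, hx, hxs⟩ := hsurj s
    obtain ⟨hm, hc⟩ := hcm x hx
    rw [hxs, hse] at hc
    refine ⟨_, hm, hc, commutatorElement_eq_one_iff_mul_comm.mpr ?_⟩
    have hw : ⁅u, x⁆ * ⁅u, x⁆ = 1 := hsq _ hm (by rw [hc, hqe])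
    have e' : u * ⁅u, x⁆ * u⁻¹ = ⁅u, x⁆⁻¹ := by
      calc u * ⁅u, x⁆ * u⁻¹ = (u * u) * x * (u * u)⁻¹ * (u * x⁻¹ * u⁻¹) := by
            rw [commutatorElement_def]; group
        _ = ⁅u, x⁆⁻¹ := by rw [h2, commutatorElement_def]; group
    rw [inv_eq_of_mul_eq_one_right hw] at e'
    exact mul_inv_eq_iff_eq_mul.mp e'
  obtain ⟨x0, hx0, hχ0, hc0⟩ := vanish E3 E0 (by decide +kernel) (by decide)
  obtain ⟨x2, hx2, hχ2, hc2⟩ := vanish E1 E2 (by decide +kernel) (by decide)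
  obtain ⟨x4, hx4, hχ4⟩ := hsurj E4
  obtain ⟨x5, hx5, hχ5⟩ := hsurj E5
  obtain ⟨i4, j4, h4⟩ := F.E_inV (hE x4 hx4 (by rw [hχ4]; exact L0_E4))
  obtain ⟨i5, j5, h5⟩ := F.E_inV (hE x5 hx5 (by rw [hχ5]; exact L0_E5))
  refine ⟨(i4, i5), (j4, j5), fun x hx hfix => ?_⟩
  obtain ⟨f1, f3⟩ := L0_fix hfix
  let pk : ZMod 2 → G → G := fun c y => if c = 0 then 1 else y
  have pkH : ∀ c y, y ∈ H → pk c y ∈ H := by
    intro c y hy; simp only [pk]; split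
    exacts [one_mem _, hy]
  have pkχ : ∀ c y, y ∈ H → χ (pk c y) = c • χ y := by
    intro c y hy
    rcases z2 c with rfl | rfl <;> simp [pk, h1]
  have pkc : ∀ c y i j, ⁅u, y⁆ = pw F.z i * pw F.v j →
      ⁅u, pk c y⁆ = pw F.z (c * i) * pw F.v (c * j) := by
    intro c y i j h
    rcases z2 c with rfl | rfl <;> simp [pk, h]
  have hy : χ x = χ (pk (χ x 0) x0 * (pk (χ x 2) x2 * (pk (χ x 4) x4 * pk (χ x 5) x5))) := by
    rw [hmul _ (pkH _ _ hx0) _ (mul_mem (pkH _ _ hx2) (mul_mem (pkH _ _ hx4) (pkH _ _ hx5))),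
      hmul _ (pkH _ _ hx2) _ (mul_mem (pkH _ _ hx4) (pkH _ _ hx5)),
      hmul _ (pkH _ _ hx4) _ (pkH _ _ hx5), pkχ _ _ hx0, pkχ _ _ hx2, pkχ _ _ hx4, pkχ _ _ hx5,
      hχ0, hχ2, hχ4, hχ5]
    conv_lhs => rw [decomp6 (χ x), f1, f3, zero_smul, zero_smul, add_zero, add_zero]
    abel
  have mv : ∀ i j, pw F.z i * pw F.v j ∈ F.Q ⊓ F.P := fun i j =>
    mul_mem (pw_mem F.cfg.z_mem_E i) (pw_mem F.cfg.s_mem_E j)
  have c0 : ⁅u, x0⁆ = pw F.z 0 * pw F.v 0 := by rw [hc0, pw_zero, pw_zero, one_mul]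
  have c2 : ⁅u, x2⁆ = pw F.z 0 * pw F.v 0 := by rw [hc2, pw_zero, pw_zero, one_mul]
  have q5 := pkc (χ x 5) x5 i5 j5 h5
  have q4 := pkc (χ x 4) x4 i4 j4 h4
  have q2 := pkc (χ x 2) x2 0 0 c2
  have q0 := pkc (χ x 0) x0 0 0 c0
  have m45 : ⁅u, pk (χ x 4) x4 * pk (χ x 5) x5⁆ =
      pw F.z (χ x 4 * i4 + χ x 5 * i5) * pw F.v (χ x 4 * j4 + χ x 5 * j5) := by
    rw [F.comm_mul_D (hD _ (pkH _ _ hx4)) (q5 ▸ mv _ _), q4, q5, F.vz_mul]
  have m245 : ⁅u, pk (χ x 2) x2 * (pk (χ x 4) x4 * pk (χ x 5) x5)⁆ =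
      pw F.z (χ x 4 * i4 + χ x 5 * i5) * pw F.v (χ x 4 * j4 + χ x 5 * j5) := by
    rw [F.comm_mul_D (hD _ (pkH _ _ hx2)) (m45 ▸ mv _ _), q2, m45, F.vz_mul]
    simp
  rw [congr x hx _ (mul_mem (pkH _ _ hx0) (mul_mem (pkH _ _ hx2)
    (mul_mem (pkH _ _ hx4) (pkH _ _ hx5)))) hy,
    F.comm_mul_D (hD _ (pkH _ _ hx0)) (m245 ▸ mv _ _), q0, m245, F.vz_mul]
  simp only [dot, mul_zero, zero_add]
  congr 2 <;> ring

/-- The four functionals. -/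
structure Vals (u : G) (g th k d : ZMod 2 × ZMod 2) : Prop where
  valA : ∀ a ∈ Cfg.A F.Q F.v, L0 (F.κ a) = F.κ a →
    ⁅u, a⁆ = pw F.z (dot g (F.κ a)) * pw F.v (dot th (F.κ a))
  valB : ∀ b ∈ Cfg.A F.P F.z, L0 (F.θ b) = F.θ b →
    ⁅u, b⁆ = pw F.z (dot k (F.θ b)) * pw F.v (dot d (F.θ b))

theorem exists_vals {u : G} (hu : u ∈ F.D) (h2 : u * u = 1) (hL : ∀ t, F.lm u t = L0 t) :
    ∃ g th k d, F.Vals u g th k d := by
  obtain ⟨g, th, hA⟩ := F.exists_dot hu h2 (Cfg.A F.Q F.v) F.κ (fun x hx => F.A_le_D hx)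
    (fun x hx y hy => F.κ_mul (mem_A.mp hx).1 (mem_A.mp hy).1) F.κ_surj
    (fun x hx h => F.ker_κ hx h) (fun x hx => ⟨F.A_norm hu hx, by rw [F.κ_lm hu hx, hL]⟩)
    (fun x hx h => by rw [F.sq_A hx, h, pw_zero])
  obtain ⟨k, d, hB⟩ := F.exists_dot hu h2 (Cfg.A F.P F.z) F.θ (fun x hx => F.B_le_D hx)
    (fun x hx y hy => F.θ_mul hx hy) F.θ_surj
    (fun x hx h => F.θ_ker hx h) (fun x hx => ⟨F.B_norm hu hx, by rw [F.θ_lm hu hx, hL]⟩)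
    (fun x hx h => by rw [F.sq_B hx, h, pw_zero])
  exact ⟨g, th, k, d, hA, hB⟩

theorem fixed_of_comm_A {u a : G} (hu : u ∈ F.D) (ha : a ∈ A F.Q F.v)
    (h : ⁅u, a⁆ ∈ F.Q ⊓ F.P) : F.lm u (F.κ a) = F.κ a := by
  obtain ⟨i, j, hij⟩ := F.E_inV h
  have haQ := (mem_A.mp ha).1
  have e := F.κ_four i j
  rw [← hij, commutatorElement_def, F.κ_mul (F.T.data.norm u (F.mem_D.1 hu).1 a haQ) (inv_mem haQ),
    F.κ_inv haQ, F.κ_lm hu ha] at e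
  exact (add_eq_zero_iff_eq_neg.mp e).trans (ZModModule.neg_eq_self _)

theorem fixed_of_comm_B {u b : G} (hu : u ∈ F.D) (hb : b ∈ A F.P F.z)
    (h : ⁅u, b⁆ ∈ F.Q ⊓ F.P) : F.lm u (F.θ b) = F.θ b := by
  have e := F.θ_pw_mul h
  rw [commutatorElement_def, F.θ_mul (F.B_norm hu hb) (inv_mem hb), F.θ_inv hb, F.θ_lm hu hb] at e
  exact (add_eq_zero_iff_eq_neg.mp e).trans (ZModModule.neg_eq_self _)

theorem side_of_vals {u : G} (hu : u ∈ F.D) (hL : ∀ t, F.lm u t = L0 t)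
    {g th k d : ZMod 2 × ZMod 2} (hv : F.Vals u g th k d) (h : th = (0, 0)) : F.Side u := by
  intro a ha he
  have hf := F.fixed_of_comm_A hu ha he
  rw [hL] at hf
  refine ⟨dot g (F.κ a), ?_⟩
  rw [hv.valA a ha hf, h]
  simp [dot]

theorem bside_of_vals {u : G} (hu : u ∈ F.D) (hL : ∀ t, F.lm u t = L0 t)
    {g th k d : ZMod 2 × ZMod 2} (hv : F.Vals u g th k d) (h : k = (0, 0)) : F.BSide u := by
  intro b hb he
  have hf := F.fixed_of_comm_B hu hb he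
  rw [hL] at hf
  refine ⟨dot d (F.θ b), ?_⟩
  rw [hv.valB b hb hf, h]
  simp [dot]

theorem vals_of_side {u : G} {g th k d : ZMod 2 × ZMod 2}
    (hv : F.Vals u g th k d) (hs : F.Side u) : th = (0, 0) := by
  have key : ∀ e : U6, L0 e = e → dot th e = 0 := by
    intro e he
    obtain ⟨a, ha, hκ⟩ := F.κ_surj e
    have h := hv.valA a ha (by rw [hκ, he])
    obtain ⟨i, hi⟩ := hs a ha (h ▸ mul_mem (pw_mem F.cfg.z_mem_E _) (pw_mem F.cfg.s_mem_E _))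
    rw [hi, hκ] at h
    have h' : pw F.z i * pw F.v 0 = pw F.z (dot g e) * pw F.v (dot th e) := by
      rw [pw_zero, mul_one]; exact h
    exact (F.vz_inj h').2.symm
  have a := key E4 L0_E4
  have b := key E5 L0_E5
  simp [dot, E4, E5] at a b
  exact Prod.ext a b

theorem vals_of_bside {u : G} {g th k d : ZMod 2 × ZMod 2}
    (hv : F.Vals u g th k d) (hs : F.BSide u) : k = (0, 0) := by
  have key : ∀ e : U6, L0 e = e → dot k e = 0 := by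
    intro e he
    obtain ⟨b, hb, hθ⟩ := F.θ_surj e
    have h := hv.valB b hb (by rw [hθ, he])
    obtain ⟨i, hi⟩ := hs b hb (h ▸ mul_mem (pw_mem F.cfg.z_mem_E _) (pw_mem F.cfg.s_mem_E _))
    rw [hi, hθ] at h
    have h' : pw F.z 0 * pw F.v i = pw F.z (dot k e) * pw F.v (dot d e) := by
      rw [pw_zero, one_mul]; exact h
    exact (F.vz_inj h').1.symm
  have a := key E4 L0_E4
  have b := key E5 L0_E5
  simp [dot, E4, E5] at a b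
  exact Prod.ext a b

/-- A second involution with the same middle action. -/
theorem translate {τ u : G} (hτ : τ ∈ F.D) (hτ2 : τ * τ = 1) (hτL : ∀ t, F.lm τ t = L0 t)
    (hu : u ∈ F.D) (hu2 : u * u = 1) (huL : ∀ t, F.lm u t = L0 t) {g th k d : ZMod 2 × ZMod 2}
    (hv : F.Vals τ g th k d) :
    ∃ t s : U6, L0 t = t ∧ L0 s = s ∧
      F.Vals u (g.1 + (t 5 + s 5), g.2 + (t 4 + s 4)) (th.1 + s 5, th.2 + s 4)
        (k.1 + t 5, k.2 + t 4) (d.1 + (t 5 + s 5), d.2 + (t 4 + s 4)) ∧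
      dot g t + dot k s + (qU t + bU t s) = 0 ∧ dot th t + dot d s + (qU s + bU t s) = 0 := by
  have hc : τ⁻¹ * u ∈ F.D := mul_mem (inv_mem hτ) hu
  have hfix : ∀ r, F.lm (τ⁻¹ * u) r = r := fun r => by
    rw [F.lm_mul (inv_mem hτ) hu, huL, ← hτL, ← F.lm_mul (inv_mem hτ) hτ, inv_mul_cancel, F.lm_one]
  obtain ⟨a, ha, b, hb, hab⟩ := F.mem_AB_of_fix hc hfix
  have hu' : u = τ * (a * b) := by rw [← hab, mul_inv_cancel_left]
  have hti : τ⁻¹ = τ := inv_eq_of_mul_eq_one_right hτ2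
  have hswap : τ * a * τ⁻¹ * (τ * b * τ⁻¹) = b⁻¹ * a⁻¹ := by
    have h : τ * (a * b) * (τ * (a * b)) = 1 := by rw [← hu']; exact hu2
    rw [hti]
    calc τ * a * τ * (τ * b * τ) = τ * (a * (τ * τ) * b) * τ := by group
      _ = (τ * (a * b) * (τ * (a * b))) * (b⁻¹ * a⁻¹) := by rw [hτ2]; group
      _ = _ := by rw [h, one_mul]
  have hba : b⁻¹ * a⁻¹ * b ∈ A F.Q F.v := by
    have h := F.A_norm (inv_mem (F.B_le_D hb)) (inv_mem ha)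
    simpa using h
  obtain ⟨e1, e2⟩ := F.eq_AB (F.A_norm hτ ha) hba (F.B_norm hτ hb) (inv_mem hb) (by
    rw [hswap]; group)
  have hκ' : F.κ (b⁻¹ * a⁻¹ * b) = F.κ a := by
    have h := F.κ_conj_B (inv_mem hb) (inv_mem ha)
    rw [inv_inv] at h
    rw [h, F.κ_inv (mem_A.mp ha).1]
  rw [F.κ_lm hτ ha, hτL, hκ'] at e1
  rw [F.θ_lm hτ hb, hτL, F.θ_inv hb] at e2
  refine ⟨F.κ a, F.θ b, e1, e2, ⟨?_, ?_⟩, ?_⟩
  · intro x hx hfx
    have hA : ⁅a * b, x⁆ = pw F.z (bU (F.κ x) (F.κ a + F.θ b)) * pw F.v (bU (F.κ x) (F.θ b)) := by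
      have h := F.conj_A hx ha hb
      calc ⁅a * b, x⁆ = (a * b) * (x * (a * b) * x⁻¹)⁻¹ := by rw [commutatorElement_def]; group
        _ = _ := by
          rw [h, mul_inv_rev, ← mul_assoc, mul_inv_rev, pw_inv F.v_sq, pw_inv F.z_sq]
          have hd := F.D_fix_V (mul_mem (F.A_le_D ha) (F.B_le_D hb))
            (bU (F.κ x) (F.κ a + F.θ b)) (bU (F.κ x) (F.θ b))
          have hc : pw F.v (bU (F.κ x) (F.θ b)) * pw F.z (bU (F.κ x) (F.κ a + F.θ b)) =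
              pw F.z (bU (F.κ x) (F.κ a + F.θ b)) * pw F.v (bU (F.κ x) (F.θ b)) :=
            pw_comm _ (F.T.Qz (pw_mem F.hv _)) _
          rw [hc, hd, mul_inv_cancel_right]
    have hmul : ⁅τ * (a * b), x⁆ = ⁅a * b, x⁆ * ⁅τ, x⁆ := by
      have hf := F.D_fix_V hτ (bU (F.κ x) (F.κ a + F.θ b)) (bU (F.κ x) (F.θ b))
      calc ⁅τ * (a * b), x⁆ = τ * ⁅a * b, x⁆ * τ⁻¹ * ⁅τ, x⁆ := by
            simp only [commutatorElement_def]; group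
        _ = _ := by rw [hA, hf, mul_inv_cancel_right]
    rw [hu', hmul, hA, hv.valA x hx hfx, F.vz_mul, bU_add_right,
      bU_fixed hfx e1, bU_fixed hfx e2]
    simp only [dot]
    congr 2 <;> ring
  · intro x hx hfx
    have hA : ⁅a * b, x⁆ = pw F.z (bU (F.κ a) (F.θ x)) *
        pw F.v (bU (F.κ a) (F.θ x) + bU (F.θ b) (F.θ x)) := by
      have c1 := F.comm_ba ha hx
      have c2 := F.comm_BB hb hx
      have hf : a * pw F.v (bU (F.θ b) (F.θ x)) = pw F.v (bU (F.θ b) (F.θ x)) * a :=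
        pw_comm a (mem_A.mp ha).2 _
      calc ⁅a * b, x⁆ = a * ⁅b, x⁆ * a⁻¹ * ⁅x, a⁆⁻¹ := by
            simp only [commutatorElement_def]; group
        _ = _ := by
          rw [c1, c2, hf, mul_inv_cancel_right, mul_inv_rev, pw_inv F.z_sq, pw_inv F.v_sq,
            ← mul_assoc, ← pw_add F.v_sq, add_comm]
          exact pw_comm _ (F.T.Qz (pw_mem F.hv _)) _
    have hmul : ⁅τ * (a * b), x⁆ = ⁅a * b, x⁆ * ⁅τ, x⁆ := by
      have hf := F.D_fix_V hτ (bU (F.κ a) (F.θ x)) (bU (F.κ a) (F.θ x) + bU (F.θ b) (F.θ x))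
      calc ⁅τ * (a * b), x⁆ = τ * ⁅a * b, x⁆ * τ⁻¹ * ⁅τ, x⁆ := by
            simp only [commutatorElement_def]; group
        _ = _ := by rw [hA, hf, mul_inv_cancel_right]
    rw [hu', hmul, hA, hv.valB x hx hfx, F.vz_mul, bU_fixed e1 hfx, bU_fixed e2 hfx]
    simp only [dot]
    congr 2 <;> ring
  · have hA := hv.valA a ha e1
    have hB := hv.valB b hb e2
    have e : τ * (a * b) * (τ * (a * b)) = ⁅τ, a⁆ * ⁅τ, b⁆ * (a * b * (a * b)) := by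
      have hE : ⁅τ, b⁆ ∈ F.Q ⊓ F.P := by
        rw [hB]; exact mul_mem (pw_mem F.cfg.z_mem_E _) (pw_mem F.cfg.s_mem_E _)
      have h := F.V_fix (F.A_le_D ha) hE
      calc τ * (a * b) * (τ * (a * b)) = τ * a * τ * (τ⁻¹ * b * τ) * (a * b) := by group
        _ = τ * a * τ⁻¹ * (τ * b * τ⁻¹) * (a * b) := by rw [hti]
        _ = ⁅τ, a⁆ * (a * ⁅τ, b⁆) * b * (a * b) := by simp only [commutatorElement_def]; group
        _ = _ := by rw [h]; group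
    rw [← hu', hu2, hA, hB, F.sq_AB ha hb, F.vz_mul, F.vz_mul] at e
    obtain ⟨k1, k2⟩ := F.vz_inj (i := 0) (j := 0) (by rw [← e]; simp)
    exact ⟨k1.symm, k2.symm⟩

theorem side_conj_D {u d : G} (hd : d ∈ F.D) (hs : F.Side u) : F.Side (d * u * d⁻¹) := by
  intro a ha he
  have hz : d⁻¹ * F.z * d = F.z := by
    rw [mul_assoc, ← (F.mem_D.1 hd).1, inv_mul_cancel_left]
  have ha' : d⁻¹ * a * d ∈ A F.Q F.v := by simpa using F.A_norm (inv_mem hd) ha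
  have e : ⁅u, d⁻¹ * a * d⁆ = d⁻¹ * ⁅d * u * d⁻¹, a⁆ * d := by
    simp only [commutatorElement_def]; group
  obtain ⟨i, hi⟩ := hs _ ha' (by
    rw [e, mul_assoc, ← F.V_fix hd he, inv_mul_cancel_left]; exact he)
  refine ⟨i, ?_⟩
  rw [e, mul_assoc, ← F.V_fix hd he, inv_mul_cancel_left] at hi
  exact hi

theorem inQ_conj {y : G} (hy : y ∈ F.Q) (hy2 : y * y = 1) (hy1 : y ≠ 1) : IsConj y F.z := by
  by_cases hyz : y = F.z
  · rw [hyz]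
  · obtain ⟨k, -, hk⟩ := F.exists_conj_v hy hy2 hy1 hyz
    exact (isConj_iff.2 ⟨k, hk⟩).trans (isConj_iff.2 ⟨F.h, rfl⟩ : IsConj F.z F.v).symm

theorem inP_conj {y : G} (hy : y ∈ F.P) (hy2 : y * y = 1) (hy1 : y ≠ 1) : IsConj y F.z := by
  have h1 : IsConj y (F.h⁻¹ * y * F.h) := isConj_iff.2 ⟨F.h⁻¹, by group⟩
  refine h1.trans (F.inQ_conj (mem_conjS.1 hy) ?_ ?_)
  · calc F.h⁻¹ * y * F.h * (F.h⁻¹ * y * F.h) = F.h⁻¹ * (y * y) * F.h := by group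
      _ = 1 := by rw [hy2]; group
  · intro e
    apply hy1
    calc y = F.h * (F.h⁻¹ * y * F.h) * F.h⁻¹ := by group
      _ = 1 := by rw [e]; group

theorem not_side_of_conj {u : G} (huz : IsConj F.z u) (hu : u ∈ F.D) (hs : F.Side u)
    (hne : u ≠ F.z) : IsConj F.z (F.z * u) := by
  have hu2 : u * u = 1 := by
    obtain ⟨g, rfl⟩ := isConj_iff.1 huz
    exact conj_invol F.z_sq
  have hz := (F.mem_D.1 hu).1
  have hzu : F.z * u * (F.z * u) = 1 := by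
    calc F.z * u * (F.z * u) = F.z * (u * F.z) * u := by group
      _ = F.z * F.z * (u * u) := by rw [hz]; group
      _ = 1 := by rw [F.z_sq, hu2, one_mul]
  have hzu1 : F.z * u ≠ 1 := fun e => hne (by
    rw [← inv_eq_of_mul_eq_one_right e, inv_eq_of_mul_eq_one_right F.z_sq])
  by_cases hQ : u ∈ F.Q
  · exact (F.inQ_conj (mul_mem F.T.data.z_mem hQ) hzu hzu1).symm
  obtain ⟨g, hg, h⟩ := F.classify_thin hz hu2 hQ (F.thin_of_side hu hu2 hs)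
  have hc : IsConj F.z (g * u * g⁻¹) := huz.trans (isConj_iff.2 ⟨g, rfl⟩)
  rcases h with h | h | h
  · refine IsConj.trans ?_ (isConj_iff.2 ⟨g⁻¹, ?_⟩ : IsConj (F.z * (g * u * g⁻¹)) (F.z * u))
    · have hgz : g * F.z * g⁻¹ = F.z := mul_inv_eq_iff_eq_mul.mpr hg
      have e : F.z * (g * u * g⁻¹) = g * (F.z * u) * g⁻¹ := by
        conv_lhs => rw [← hgz]
        group
      refine (F.inP_conj (mul_mem F.cfg.z_mem h) ?_ ?_).symm
      · rw [e]; exact conj_invol hzu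
      · rw [e]; exact fun h' => hzu1 (conj_eq_one_iff.mp h')
    · have hgz : g * F.z * g⁻¹ = F.z := mul_inv_eq_iff_eq_mul.mpr hg
      conv_lhs => rw [← hgz]
      group
  · exact absurd hc (F.typ_not_conj pairB fixedB h)
  · exact absurd hc (F.typ_not_conj pairC fixedC h)

theorem swap_inv {σ : G} (h1 : σ * F.z * σ⁻¹ = F.v) (h2 : σ * F.v * σ⁻¹ = F.z) :
    σ⁻¹ * F.z * σ⁻¹⁻¹ = F.v ∧ σ⁻¹ * F.v * σ⁻¹⁻¹ = F.z := by
  refine ⟨?_, ?_⟩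
  · conv_lhs => rw [← h2]
    simp only [Fr.v, Fr.z]; group
  · conv_lhs => rw [← h1]
    simp only [Fr.v, Fr.z]; group

theorem swap_E {σ : G} (h1 : σ * F.z * σ⁻¹ = F.v) (h2 : σ * F.v * σ⁻¹ = F.z) {e : G}
    (he : e ∈ F.Q ⊓ F.P) : σ * e * σ⁻¹ ∈ F.Q ⊓ F.P := by
  obtain ⟨i, j, rfl⟩ := F.E_inV he
  rw [show σ * (pw F.z i * pw F.v j) * σ⁻¹ = (σ * pw F.z i * σ⁻¹) * (σ * pw F.v j * σ⁻¹) by group,
    pw_map, pw_map, h1, h2]
  exact mul_mem (pw_mem F.cfg.s_mem_E i) (pw_mem F.cfg.z_mem_E j)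

theorem swap_D {σ : G} (h1 : σ * F.z * σ⁻¹ = F.v) (h2 : σ * F.v * σ⁻¹ = F.z) {u : G}
    (hu : u ∈ F.D) : σ * u * σ⁻¹ ∈ F.D := by
  refine F.mem_D.2 ⟨?_, ?_⟩
  · rw [← h2]
    calc σ * u * σ⁻¹ * (σ * F.v * σ⁻¹) = σ * (u * F.v) * σ⁻¹ := by group
      _ = _ := by rw [(F.mem_D.1 hu).2]; group
  · rw [← h1]
    calc σ * u * σ⁻¹ * (σ * F.z * σ⁻¹) = σ * (u * F.z) * σ⁻¹ := by group
      _ = _ := by rw [(F.mem_D.1 hu).1]; group

theorem side_of_swap {σ : G} (h1 : σ * F.z * σ⁻¹ = F.v) (h2 : σ * F.v * σ⁻¹ = F.z) {u : G}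
    (hs : F.BSide u) : F.Side (σ * u * σ⁻¹) := by
  intro a ha he
  obtain ⟨i1, i2⟩ := F.swap_inv h1 h2
  have hb := (F.swap_maps i1 i2).1 a ha
  have e : ⁅u, σ⁻¹ * a * σ⁻¹⁻¹⁆ = σ⁻¹ * ⁅σ * u * σ⁻¹, a⁆ * σ⁻¹⁻¹ := by
    simp only [commutatorElement_def]; group
  obtain ⟨j, hj⟩ := hs _ hb (e ▸ F.swap_E i1 i2 he)
  rw [e] at hj
  refine ⟨j, ?_⟩
  calc ⁅σ * u * σ⁻¹, a⁆ = σ * (σ⁻¹ * ⁅σ * u * σ⁻¹, a⁆ * σ⁻¹⁻¹) * σ⁻¹ := by group
    _ = pw F.z j := by rw [hj, pw_map, h2]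

theorem bside_of_swap {σ : G} (h1 : σ * F.z * σ⁻¹ = F.v) (h2 : σ * F.v * σ⁻¹ = F.z) {u : G}
    (hs : F.Side u) : F.BSide (σ * u * σ⁻¹) := by
  intro a ha he
  obtain ⟨i1, i2⟩ := F.swap_inv h1 h2
  have hb := (F.swap_maps i1 i2).2 a ha
  have e : ⁅u, σ⁻¹ * a * σ⁻¹⁻¹⁆ = σ⁻¹ * ⁅σ * u * σ⁻¹, a⁆ * σ⁻¹⁻¹ := by
    simp only [commutatorElement_def]; group
  obtain ⟨j, hj⟩ := hs _ hb (e ▸ F.swap_E i1 i2 he)
  rw [e] at hj
  refine ⟨j, ?_⟩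
  calc ⁅σ * u * σ⁻¹, a⁆ = σ * (σ⁻¹ * ⁅σ * u * σ⁻¹, a⁆ * σ⁻¹⁻¹) * σ⁻¹ := by group
    _ = pw F.v j := by rw [hj, pw_map, h1]

theorem bside_conj_D {u d : G} (hd : d ∈ F.D) (hs : F.BSide u) : F.BSide (d * u * d⁻¹) := by
  intro a ha he
  have ha' : d⁻¹ * a * d ∈ A F.P F.z := by simpa using F.B_norm (inv_mem hd) ha
  have e : ⁅u, d⁻¹ * a * d⁆ = d⁻¹ * ⁅d * u * d⁻¹, a⁆ * d := by
    simp only [commutatorElement_def]; group
  obtain ⟨i, hi⟩ := hs _ ha' (by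
    rw [e, mul_assoc, ← F.V_fix hd he, inv_mul_cancel_left]; exact he)
  refine ⟨i, ?_⟩
  rw [e, mul_assoc, ← F.V_fix hd he, inv_mul_cancel_left] at hi
  exact hi

/-- Conjugation of `B` by an element of the radical moving `v`. -/
theorem conj_B_gen {p b : G} (hp : p ∈ F.Q) (hpc : cp (F.T.c p) = 1) (hb : b ∈ A F.P F.z) :
    ∃ a' ∈ A F.Q F.v, p * b * p⁻¹ = a' * b ∧ F.κ a' = F.θ b := by
  have hbz := (mem_A.mp hb).2
  have hy : p * (b * p⁻¹ * b⁻¹) ∈ F.Q := mul_mem hp (F.T.data.norm b hbz _ (inv_mem hp))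
  have hyc : F.T.c (p * (b * p⁻¹ * b⁻¹)) =
      io (F.θ b) + (qU (F.θ b) + bU (pu (F.T.c p)) (F.θ b)) • v0 := by
    rw [F.T.c_mul _ hp _ (F.T.data.norm b hbz _ (inv_mem hp)), F.T.ρ_conj b hbz _ (inv_mem hp),
      F.T.c_inv hp, F.ap_B hb, hpc, one_smul, one_mul,
      ← add_assoc, ← add_assoc, ZModModule.add_self, zero_add]
  refine ⟨p * (b * p⁻¹ * b⁻¹), F.mem_A_iff.2 ⟨hy, ?_⟩, by group, ?_⟩
  · rw [hyc, cp_add, cp_io, zero_add]; simp [cp, v0]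
  · rw [κ, hyc, pu_add, pu_io, pu_smul, pu_v0, smul_zero, add_zero]

theorem conj_p' {q : G} (hq : q ∈ F.Q) (hc : cp (F.T.c q) = 1) :
    q * F.v * q⁻¹ = F.v * F.z := by
  have h := F.comm_v hq
  rw [hc, pw_one, commutatorElement_def] at h
  rw [← F.zv]
  exact mul_inv_eq_iff_eq_mul.mp h

/-- A conjugate of `z` with trivial side acting as `L0`, and its functionals. -/
theorem exists_ref : ∃ τ g k, τ ∈ F.D ∧ τ * τ = 1 ∧ (∀ t, F.lm τ t = L0 t) ∧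
    F.Vals τ g (0, 0) k g ∧ k ≠ (0, 0) ∧ IsConj F.z τ ∧
    ∃ u g' th' d', u ∈ F.D ∧ u * u = 1 ∧ (∀ t, F.lm u t = L0 t) ∧
      F.Vals u g' th' (0, 0) d' ∧ th' ≠ (0, 0) := by
  obtain ⟨a0, ha0, hκ0⟩ := F.κ_surj E0
  obtain ⟨b0, hb0, hθ0⟩ := F.θ_surj E2
  have hqE0 : qU E0 = 0 := by decide
  have hqE2 : qU E2 = 0 := by decide
  have ha02 : a0 * a0 = 1 := by rw [F.sq_A ha0, hκ0, hqE0, pw_zero]
  have hb02 : b0 * b0 = 1 := by rw [F.sq_B hb0, hθ0, hqE2, pw_zero]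
  have hcomm : a0 * b0 = b0 * a0 := by
    have h := F.comm_ba ha0 hb0
    rw [hκ0, hθ0, show bU E0 E2 = 0 by decide, pw_zero, pw_zero, one_mul] at h
    exact (commutatorElement_eq_one_iff_mul_comm.mp h).symm
  have hA0 : F.κ a0 ≠ 0 := by rw [hκ0]; decide
  have ha01 : a0 ≠ 1 := fun e => hA0 (by rw [e, κ, F.T.c_one, pu_zero])
  have ha0z : a0 ≠ F.z := fun e => hA0 (by rw [e, κ, show F.T.c F.z = 0 from F.T.c_z, pu_zero])
  obtain ⟨g, hg, hga⟩ := F.exists_conj_v (mem_A.mp ha0).1 ha02 ha01 ha0z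
  have hgz : g * F.z * g⁻¹ = F.z := mul_inv_eq_iff_eq_mul.mpr hg
  have hb0z := (mem_A.mp hb0).2
  set τ1 := g * b0 * g⁻¹ with hτ1
  have hτ1z : τ1 * F.z = F.z * τ1 := ((Commute.mul_left hg hb0z).mul_left (Commute.inv_left hg)).eq
  have hτ1D : τ1 ∈ F.D := F.mem_D.2 ⟨hτ1z, by
    rw [← hga]
    calc τ1 * (g * a0 * g⁻¹) = g * (b0 * a0) * g⁻¹ := by rw [hτ1]; group
      _ = _ := by rw [← hcomm, hτ1]; group⟩
  have hτ12 : τ1 * τ1 = 1 := conj_invol hb02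
  have hb0Q : b0 ∉ F.Q := fun h => by
    have := F.θ_pw_mul (Subgroup.mem_inf.2 ⟨h, (mem_A.mp hb0).1⟩)
    rw [hθ0] at this
    exact E2_ne this
  have hτ1Q : τ1 ∉ F.Q := fun h => hb0Q ((F.T.data.norm_iff g hg b0).1 h)
  have hτ1c : IsConj F.z τ1 :=
    ((F.inP_conj (mem_A.mp hb0).1 hb02 (fun e => hb0Q (e ▸ one_mem _))).symm).trans
      (isConj_iff.2 ⟨g, rfl⟩)
  have hvτ1 : ¬ IsConj F.z (F.v * τ1) := by
    intro h
    refine F.typ_not_conj pairC fixedC ⟨a0, ha0, b0, hb0, rfl, hκ0, hθ0⟩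
      (h.trans (isConj_iff.2 ⟨g⁻¹, ?_⟩))
    rw [← hga, hτ1]; group
  -- the image of the transported element
  have himg : ∀ x, ap (F.T.ρ τ1) x + x = ap (F.T.ρ g) (cp (ap (F.T.ρ g)⁻¹ x) • io E2 +
      bU (pu (ap (F.T.ρ g)⁻¹ x)) E2 • v0) := by
    intro x
    rw [hτ1, F.T.ρ_mul _ _ (Commute.mul_left hg hb0z).eq (Commute.inv_left hg).eq,
      F.T.ρ_mul g b0 hg hb0z, F.T.ρ_inv hg, ap_mul, ap_mul]
    conv_lhs => arg 2; rw [← ap_ap_inv (F.T.ρ g) x]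
    rw [← map_add]
    congr 1
    rw [F.ap_B hb0, hθ0, hqE2, mul_zero, zero_add, add_comm _ (ap (F.T.ρ g)⁻¹ x), ← add_assoc,
      ← add_assoc, ZModModule.add_self, zero_add]
  have hsing : ∀ x, qm (ap (F.T.ρ τ1) x + x) = 0 := by
    intro x
    rw [himg, Q_ap, qm_eq, pu_add, pu_smul, pu_smul, pu_io, pu_v0, smul_zero, add_zero]
    rcases z2 (cp (ap (F.T.ρ g)⁻¹ x)) with k | k <;> rw [k] <;>
      simp [cp, qU_zero, hqE2, io, v0]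
  have hnv : ∀ x, ap (F.T.ρ τ1) x + x ≠ v0 := by
    intro x h
    rw [himg] at h
    have hgv : ap (F.T.ρ g) (F.T.c a0) = v0 := by
      rw [← F.T.ρ_conj g hg a0 (mem_A.mp ha0).1, hga]; exact F.cv
    have h' := congrArg pu (ap_inj _ (h.trans hgv.symm))
    rw [pu_add, pu_smul, pu_smul, pu_io, pu_v0, smul_zero, add_zero, show pu (F.T.c a0) = E0 from hκ0]
      at h'
    rcases z2 (cp (ap (F.T.ρ g)⁻¹ x)) with k | k <;> rw [k] at h'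
    · rw [zero_smul] at h'
      exact absurd h'.symm (by decide)
    · rw [one_smul] at h'
      exact absurd h' (by decide)
  have hside1 : F.Side τ1 := by
    intro a ha he
    obtain ⟨i, j, hij⟩ := F.E_inV he
    refine ⟨i, ?_⟩
    rcases z2 j with rfl | rfl
    · rw [hij, pw_zero, mul_one]
    · exfalso
      apply hnv (F.T.c a)
      have haQ := (mem_A.mp ha).1
      rw [← F.T.ρ_conj τ1 hτ1z a haQ]
      conv_lhs => arg 2; rw [← F.T.c_inv haQ]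
      rw [← F.T.c_mul _ (F.T.data.norm τ1 hτ1z a haQ) _ (inv_mem haQ), ← commutatorElement_def, hij,
        F.T.c_mul _ (pw_mem F.T.data.z_mem i) _ (pw_mem F.hv 1)]
      have : F.T.c (pw F.z i) = 0 := by
        rcases z2 i with rfl | rfl <;> simp [F.T.c_one, F.T.c_z]
      rw [this, zero_add, pw_one]
      exact F.cv
  have hne1 : ∃ t, F.lm τ1 t ≠ t := by
    by_contra! hfix
    obtain ⟨a', ha', b', hb', e⟩ := F.mem_AB_of_fix hτ1D hfix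
    have hθ : F.θ b' ≠ 0 := fun e' => hτ1Q (e ▸ mul_mem (mem_A.mp ha').1 (F.θ_ker hb' e').1)
    obtain ⟨w, hw⟩ : ∃ w, bU w (F.θ b') = 1 := by
      by_contra! h
      refine hθ (bU_nd _ fun w => ?_)
      rw [bU_comm]
      rcases z2 (bU w (F.θ b')) with k | k
      exacts [k, absurd k (h w)]
    apply hnv (io w)
    rw [e, F.ρ_AB ha' hb', F.ap_B hb', cp_io, pu_io, zero_smul, add_zero, zero_mul, zero_add, hw,
      one_smul, add_comm (io w) v0, add_assoc, ZModModule.add_self, add_zero]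
  obtain ⟨d0, hd0, hL⟩ := F.exists_L0 hτ1D hτ12 (fun t => by
    have h := hsing (io t)
    rw [qm_eq, cp_add, F.cp_ap hτ1D, cp_io, add_zero, mul_zero, zero_add, pu_add, pu_io] at h
    exact h) hne1
  set τ := d0 * τ1 * d0⁻¹ with hτ
  have hτD : τ ∈ F.D := mul_mem (mul_mem hd0 hτ1D) (inv_mem hd0)
  have hτ2 : τ * τ = 1 := conj_invol hτ12
  have hτz := (F.mem_D.1 hτD).1
  have hτc : IsConj F.z τ := hτ1c.trans (isConj_iff.2 ⟨d0, rfl⟩)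
  have hvτ : ¬ IsConj F.z (F.v * τ) := by
    intro h
    refine hvτ1 (h.trans (isConj_iff.2 ⟨d0⁻¹, ?_⟩))
    have hdv := (F.mem_D.1 hd0).2
    calc d0⁻¹ * (F.v * τ) * d0⁻¹⁻¹ = d0⁻¹ * (F.v * d0) * τ1 := by rw [hτ]; group
      _ = F.v * τ1 := by rw [← hdv, inv_mul_cancel_left]
  have hτside : F.Side τ := F.side_conj_D hd0 hside1
  obtain ⟨gv, th, kv, dv, hv⟩ := F.exists_vals hτD hτ2 hL
  obtain rfl := F.vals_of_side hv hτside
  obtain ⟨σ, s1, s2⟩ := F.swap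
  have hnB : ¬ F.BSide τ := by
    intro hb
    have hne : σ * τ * σ⁻¹ ≠ F.z := by
      intro e
      have : τ = F.v := by
        calc τ = σ⁻¹ * (σ * τ * σ⁻¹) * σ⁻¹⁻¹ := by group
          _ = F.v := by rw [e, (F.swap_inv s1 s2).1]
      have h0 := hL E1
      rw [this, F.lm_A F.v_mem_A] at h0
      exact absurd h0 (by decide +kernel)
    have h := F.not_side_of_conj (hτc.trans (isConj_iff.2 ⟨σ, rfl⟩)) (F.swap_D s1 s2 hτD)
      (F.side_of_swap s1 s2 hb) hne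
    refine hvτ (h.trans (isConj_iff.2 ⟨σ⁻¹, ?_⟩))
    calc σ⁻¹ * (F.z * (σ * τ * σ⁻¹)) * σ⁻¹⁻¹ = σ⁻¹ * F.z * σ⁻¹⁻¹ * τ := by group
      _ = F.v * τ := by rw [(F.swap_inv s1 s2).1]
  have hk : kv ≠ (0, 0) := fun e => hnB (F.bside_of_vals hτD hL hv e)
  -- gamma = delta
  have hgd : gv = dv := by
    obtain ⟨x, hxfix, hxp⟩ := exists_fix_polar_ne nd_qm (g := F.T.ρ τ) (v := v0) (by
      rw [← range_gm]
      rintro ⟨y, hy⟩
      exact F.not_image_of_side hτD hτside y hy)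
    rw [pl_comm, polar_v0] at hxp
    have hxp1 : cp x = 1 := (z2 _).resolve_left hxp
    obtain ⟨p, hp, hpc⟩ := F.T.c_surj x
    have hτp : ∃ i, τ * p * τ⁻¹ = p * pw F.z i := by
      rcases F.T.c_eq hp (F.T.data.norm τ hτz p hp) (by
        rw [F.T.ρ_conj τ hτz p hp, hpc, hxfix]) with e | e
      · exact ⟨0, by rw [e, pw_zero, mul_one]⟩
      · exact ⟨1, by rw [e, pw_one]⟩
    obtain ⟨i, hi⟩ := hτp
    have key : ∀ e : U6, L0 e = e → dot gv e = dot dv e := by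
      intro e he
      obtain ⟨b, hb, hθ⟩ := F.θ_surj e
      obtain ⟨a', ha', hab, hκ'⟩ := F.conj_B_gen hp (by rw [hpc]; exact hxp1) hb
      have hB := hv.valB b hb (by rw [hθ, he])
      have hA := hv.valA a' ha' (by rw [hκ', hθ, he])
      rw [hθ] at hB
      rw [hκ', hθ] at hA
      have h1 : ⁅τ, p * b * p⁻¹⁆ = p * ⁅τ, b⁆ * p⁻¹ := by
        have hzi : ∀ w ∈ F.D, w * pw F.z i = pw F.z i * w := fun w hw =>
          pw_comm w (F.mem_D.1 hw).1 i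
        have e1 : τ * (p * b * p⁻¹) * τ⁻¹ = p * (τ * b * τ⁻¹) * p⁻¹ := by
          calc τ * (p * b * p⁻¹) * τ⁻¹ = (τ * p * τ⁻¹) * (τ * b * τ⁻¹) * (τ * p * τ⁻¹)⁻¹ := by group
            _ = p * (pw F.z i * (τ * b * τ⁻¹)) * (pw F.z i)⁻¹ * p⁻¹ := by rw [hi]; group
            _ = _ := by
              rw [← hzi _ (F.mem_D.2 ⟨((Commute.mul_left hτz (mem_A.mp hb).2).mul_left
                (Commute.inv_left hτz)).eq,
                ((Commute.mul_left (F.mem_D.1 hτD).2 (F.mem_D.1 (F.B_le_D hb)).2).mul_left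
                  (Commute.inv_left (F.mem_D.1 hτD).2)).eq⟩)]
              group
        calc ⁅τ, p * b * p⁻¹⁆ = τ * (p * b * p⁻¹) * τ⁻¹ * (p * b * p⁻¹)⁻¹ := by
              rw [commutatorElement_def]
          _ = p * ⁅τ, b⁆ * p⁻¹ := by rw [e1, commutatorElement_def]; group
      have h2 : ⁅τ, a' * b⁆ = ⁅τ, a'⁆ * ⁅τ, b⁆ := F.comm_mul_D (F.A_le_D ha')
        (hB ▸ mul_mem (pw_mem F.cfg.z_mem_E _) (pw_mem F.cfg.s_mem_E _))
      rw [hab, h2, hA, hB, F.vz_mul,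
        show p * (pw F.z (dot kv e) * pw F.v (dot dv e)) * p⁻¹ =
          (p * pw F.z (dot kv e) * p⁻¹) * (p * pw F.v (dot dv e) * p⁻¹) by group,
        pw_map, pw_map, F.conj_p' hp (by rw [hpc]; exact hxp1),
        mul_inv_eq_iff_eq_mul.mpr (F.T.Qz hp)] at h1
      have h3 : pw (F.v * F.z) (dot dv e) = pw F.z (dot dv e) * pw F.v (dot dv e) := by
        rcases z2 (dot dv e) with k | k <;> rw [k] <;> simp [F.zv]
      rw [h3, ← mul_assoc, ← pw_add F.z_sq] at h1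
      obtain ⟨k1, -⟩ := F.vz_inj h1
      rw [add_comm (dot kv e)] at k1
      exact add_right_cancel k1
    have a := key E4 L0_E4
    have b := key E5 L0_E5
    simp [dot, E4, E5] at a b
    exact Prod.ext a b
  subst hgd
  -- the partner
  obtain ⟨i1, i2⟩ := F.swap_inv s1 s2
  set τ' := σ * τ * σ⁻¹ with hτ'
  have hτ'D : τ' ∈ F.D := F.swap_D s1 s2 hτD
  have hτ'2 : τ' * τ' = 1 := conj_invol hτ2
  have hτ'B : F.BSide τ' := F.bside_of_swap s1 s2 hτside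
  have hτ'nS : ¬ F.Side τ' := by
    intro h
    have h' := F.bside_of_swap i1 i2 h
    rw [show σ⁻¹ * τ' * σ⁻¹⁻¹ = τ by rw [hτ']; group] at h'
    exact hnB h'
  have hne' : ∃ t, F.lm τ' t ≠ t := by
    by_contra! hfix
    obtain ⟨a', ha', b', hb', e⟩ := F.mem_AB_of_fix hτ'D hfix
    have m1 := (F.swap_maps i1 i2).1 a' ha'
    have m2 := (F.swap_maps i1 i2).2 b' hb'
    have e' : τ = σ⁻¹ * a' * σ⁻¹⁻¹ * (σ⁻¹ * b' * σ⁻¹⁻¹) := by
      calc τ = σ⁻¹ * τ' * σ⁻¹⁻¹ := by rw [hτ']; group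
        _ = _ := by rw [e]; group
    have h0 := hL E1
    rw [e', F.lm_mul (F.B_le_D m1) (F.A_le_D m2), F.lm_A m2, F.lm_B m1] at h0
    exact absurd h0 (by decide +kernel)
  have hsing' : ∀ t, qU (F.lm τ' t + t) = 0 := by
    intro t
    obtain ⟨a, ha, hκ⟩ := F.κ_surj t
    have hb := (F.swap_maps i1 i2).1 a ha
    set b := σ⁻¹ * a * σ⁻¹⁻¹ with hbdef
    have hw : τ * b * τ⁻¹ * b⁻¹ ∈ A F.P F.z := mul_mem (F.B_norm hτD hb) (inv_mem hb)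
    have hθw : qU (F.θ (τ * b * τ⁻¹ * b⁻¹)) = 0 := by
      rw [F.θ_mul (F.B_norm hτD hb) (inv_mem hb), F.θ_inv hb, F.θ_lm hτD hb, hL]
      have : ∀ s : U6, qU (L0 s + s) = 0 := by decide +kernel
      exact this _
    have hw2 : τ * b * τ⁻¹ * b⁻¹ * (τ * b * τ⁻¹ * b⁻¹) = 1 := by rw [F.sq_B hw, hθw, pw_zero]
    have hm : τ' * a * τ'⁻¹ * a⁻¹ = σ * (τ * b * τ⁻¹ * b⁻¹) * σ⁻¹ := by
      rw [hτ', hbdef]; group
    have haQ := (mem_A.mp ha).1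
    have hmA : τ' * a * τ'⁻¹ * a⁻¹ ∈ A F.Q F.v := mul_mem (F.A_norm hτ'D ha) (inv_mem ha)
    have h := F.sq_A hmA
    rw [hm, conj_invol hw2, ← hm, F.κ_mul (mem_A.mp (F.A_norm hτ'D ha)).1 (inv_mem haQ),
      F.κ_inv haQ, F.κ_lm hτ'D ha, hκ] at h
    exact pw_inj F.z_ne (h.symm.trans (pw_zero _).symm)
  obtain ⟨d1, hd1, hL'⟩ := F.exists_L0 hτ'D hτ'2 hsing' hne'
  have huD : d1 * τ' * d1⁻¹ ∈ F.D := mul_mem (mul_mem hd1 hτ'D) (inv_mem hd1)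
  obtain ⟨g', th', k', d', hv'⟩ := F.exists_vals huD (conj_invol hτ'2) hL'
  obtain rfl := F.vals_of_bside hv' (F.bside_conj_D hd1 hτ'B)
  refine ⟨τ, gv, kv, hτD, hτ2, hL, hv, hk, hτc, _, g', th', d', huD, conj_invol hτ'2, hL', hv',
    fun e => hτ'nS ?_⟩
  have h := F.side_conj_D (inv_mem hd1) (F.side_of_vals huD hL' hv' e)
  rwa [show d1⁻¹ * (d1 * τ' * d1⁻¹) * d1⁻¹⁻¹ = τ' by group] at h

theorem third_bside {u : G} (hu : u ∈ F.D) (hL : ∀ t, F.lm u t = L0 t)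
    {g th k d : ZMod 2 × ZMod 2} (hv : F.Vals u g th k d)
    (h1 : g.1 + th.1 + k.1 + d.1 = 0) (h2 : g.2 + th.2 + k.2 + d.2 = 0) :
    ∃ p ∈ F.Q, p⁻¹ * u * p ∈ F.D ∧ F.BSide (p⁻¹ * u * p) := by
  obtain ⟨p, hp, hpc⟩ := F.T.c_surj p0
  have hcp : cp (F.T.c p) = 1 := by rw [hpc, cp_p0]
  have hpv := F.conj_p' hp hcp
  have hpz : p * F.z * p⁻¹ = F.z := mul_inv_eq_iff_eq_mul.mpr (F.T.Qz hp)
  have hpv' : p⁻¹ * F.v * p = F.v * F.z := by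
    calc p⁻¹ * F.v * p = p⁻¹ * ((F.v * F.z) * F.z) * p := by rw [mul_assoc F.v, F.z_sq, mul_one]
      _ = p⁻¹ * (p * F.v * p⁻¹ * (p * F.z * p⁻¹)) * p := by rw [hpv, hpz]
      _ = _ := by simp only [Fr.v, Fr.z]; group
  have hEp : ∀ e ∈ F.Q ⊓ F.P, p * e * p⁻¹ ∈ F.Q ⊓ F.P := by
    intro e he
    obtain ⟨i, j, rfl⟩ := F.E_inV he
    rw [show p * (pw F.z i * pw F.v j) * p⁻¹ = (p * pw F.z i * p⁻¹) * (p * pw F.v j * p⁻¹) by group,
      pw_map, pw_map, hpz, hpv]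
    exact mul_mem (pw_mem F.cfg.z_mem_E i) (pw_mem (mul_mem F.cfg.s_mem_E F.cfg.z_mem_E) j)
  refine ⟨p, hp, F.mem_D.2 ⟨?_, ?_⟩, fun b hb he => ?_⟩
  · exact ((Commute.mul_left (Commute.inv_left (F.T.Qz hp)) (F.mem_D.1 hu).1).mul_left (F.T.Qz hp)).eq
  · have hu' : u * (F.v * F.z) = F.v * F.z * u :=
      ((show Commute u F.v from (F.mem_D.1 hu).2).mul_right (F.mem_D.1 hu).1).eq
    have e := congrArg (fun r => p⁻¹ * r * p) hu'
    rw [← hpv] at e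
    simpa [mul_assoc] using e
  obtain ⟨a', ha', hab, hκ'⟩ := F.conj_B_gen hp hcp hb
  have hab' : ⁅u, a' * b⁆ = p * ⁅p⁻¹ * u * p, b⁆ * p⁻¹ := by
    rw [← hab]; simp only [commutatorElement_def]; group
  have hm : ⁅u, a' * b⁆ ∈ F.Q ⊓ F.P := hab' ▸ hEp _ he
  have hfx : L0 (F.θ b) = F.θ b := by
    have hx : u * a' * u⁻¹ * (u * b * u⁻¹) = ⁅u, a' * b⁆ * a' * b := by
      simp only [commutatorElement_def]; group
    obtain ⟨-, e2⟩ := F.eq_AB (F.A_norm hu ha') (mul_mem (F.cfg.E_le_A hm) ha')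
      (F.B_norm hu hb) hb (by rw [hx])
    rw [F.θ_lm hu hb, hL] at e2
    exact e2
  have hA := hv.valA a' ha' (by rw [hκ', hfx])
  have hB := hv.valB b hb hfx
  rw [hκ'] at hA
  have hval : ⁅u, a' * b⁆ = pw F.z (dot g (F.θ b) + dot k (F.θ b)) *
      pw F.v (dot th (F.θ b) + dot d (F.θ b)) := by
    rw [F.comm_mul_D (F.A_le_D ha') (hB ▸ mul_mem (pw_mem F.cfg.z_mem_E _) (pw_mem F.cfg.s_mem_E _)),
      hA, hB, F.vz_mul]
  have heq : dot g (F.θ b) + dot k (F.θ b) = dot th (F.θ b) + dot d (F.θ b) := by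
    simp only [dot]
    have h20 : (2 : ZMod 2) = 0 := rfl
    linear_combination (F.θ b 4) * h1 + (F.θ b 5) * h2 -
      (th.1 * F.θ b 4 + th.2 * F.θ b 5 + d.1 * F.θ b 4 + d.2 * F.θ b 5) * h20
  refine ⟨dot th (F.θ b) + dot d (F.θ b), ?_⟩
  have e : ⁅p⁻¹ * u * p, b⁆ = p⁻¹ * ⁅u, a' * b⁆ * p := by rw [hab']; group
  rw [e, hval, heq]
  rcases z2 (dot th (F.θ b) + dot d (F.θ b)) with k' | k' <;> rw [k']
  · simp
  · rw [pw_one, pw_one]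
    calc p⁻¹ * (F.z * F.v) * p = p⁻¹ * (p * F.z * p⁻¹ * F.v) * p := by rw [hpz]
      _ = F.z * (p⁻¹ * F.v * p) := by group
      _ = F.v := by rw [hpv', ← mul_assoc, F.zv, mul_assoc, F.z_sq, mul_one]

/-- Every involution acting as `L0` is conjugate to one of known shape. -/
theorem reduce {u : G} (hu : u ∈ F.D) (h2 : u * u = 1) (hL : ∀ t, F.lm u t = L0 t) :
    ∃ x, IsConj u x ∧ x * F.z = F.z * x ∧ (x ∈ F.Q ∨ F.Known x) := by
  obtain ⟨τ, g, k, hτ, hτ2, hτL, hv, hk, -, w, g', th', d', hw, hw2, hwL, hvw, hth'⟩ := F.exists_ref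
  have fin : ∀ y, IsConj u y → y ∈ F.D → F.Side y →
      ∃ x, IsConj u x ∧ x * F.z = F.z * x ∧ (x ∈ F.Q ∨ F.Known x) := by
    intro y hy hyD hys
    have hy2 : y * y = 1 := by
      obtain ⟨c, rfl⟩ := isConj_iff.1 hy
      exact conj_invol h2
    have hyz := (F.mem_D.1 hyD).1
    by_cases hQ : y ∈ F.Q
    · exact ⟨y, hy, hyz, Or.inl hQ⟩
    · obtain ⟨c, hc, hk⟩ := F.classify_thin hyz hy2 hQ (F.thin_of_side hyD hy2 hys)
      exact ⟨_, hy.trans (isConj_iff.2 ⟨c, rfl⟩),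
        ((Commute.mul_left hc hyz).mul_left (Commute.inv_left hc)).eq, Or.inr hk⟩
  obtain ⟨σ, s1, s2⟩ := F.swap
  obtain ⟨t, s, ht, hs, hvu, e1, e2⟩ := F.translate hτ hτ2 hτL hu h2 hL hv
  obtain ⟨a, r, ha, hr, hvw', w1, w2⟩ := F.translate hτ hτ2 hτL hw hw2 hwL hv
  -- compare the functionals of the partner
  have huniqA : ∀ e : U6, L0 e = e →
      dot th' e = dot ((0 : ZMod 2) + r 5, (0 : ZMod 2) + r 4) e ∧
      dot ((0 : ZMod 2), (0 : ZMod 2)) e = dot (k.1 + a 5, k.2 + a 4) e := by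
    intro e he
    obtain ⟨x, hx, hκx⟩ := F.κ_surj e
    obtain ⟨y, hy, hθy⟩ := F.θ_surj e
    have k1 := (hvw.valA x hx (by rw [hκx, he])).symm.trans (hvw'.valA x hx (by rw [hκx, he]))
    have k2 := (hvw.valB y hy (by rw [hθy, he])).symm.trans (hvw'.valB y hy (by rw [hθy, he]))
    rw [hκx] at k1
    rw [hθy] at k2
    exact ⟨(F.vz_inj k1).2, (F.vz_inj k2).1⟩
  obtain ⟨p4, q4⟩ := huniqA E4 L0_E4
  obtain ⟨p5, q5⟩ := huniqA E5 L0_E5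
  simp [dot, E4, E5] at p4 q4 p5 q5
  have ka5 : a 5 = k.1 := (add_eq_zero_z2 q4.symm).symm
  have ka4 : a 4 = k.2 := (add_eq_zero_z2 q5.symm).symm
  have hk' : k.1 ≠ 0 ∨ k.2 ≠ 0 := by
    by_contra! h
    exact hk (Prod.ext h.1 h.2)
  have hr' : r 4 ≠ 0 ∨ r 5 ≠ 0 := by
    by_contra! h
    exact hth' (Prod.ext (p4.trans h.2) (p5.trans h.1))
  rw [qU_fixed ha, bU_fixed ha hr, ka4, ka5] at w1
  rw [qU_fixed hr, bU_fixed ha hr, ka4, ka5] at w2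
  rw [qU_fixed ht, bU_fixed ht hs] at e1
  rw [qU_fixed hs, bU_fixed ht hs] at e2
  simp only [dot, zero_mul, zero_add, ka4, ka5] at w1 w2 e1 e2
  rcases plane g.1 g.2 k.1 k.2 (t 4) (t 5) (s 4) (s 5) (r 4) (r 5) hk' hr'
      (by linear_combination w1) (by linear_combination w2) (by linear_combination e1)
      (by linear_combination e2) with ⟨h5, h4⟩ | ⟨h5, h4⟩ | ⟨h5, h4⟩
  · exact fin u (IsConj.refl u) hu (F.side_of_vals hu hL hvu (by rw [h5, h4]; simp))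
  · exact fin (σ * u * σ⁻¹) (isConj_iff.2 ⟨σ, rfl⟩) (F.swap_D s1 s2 hu)
      (F.side_of_swap s1 s2 (F.bside_of_vals hu hL hvu (by rw [h5, h4])))
  · obtain ⟨p, hp, hpD, hpB⟩ := F.third_bside hu hL hvu
      (by
        have h20 : (2 : ZMod 2) = 0 := rfl
        linear_combination h5 + (g.1 + t 5 + s 5) * h20)
      (by
        have h20 : (2 : ZMod 2) = 0 := rfl
        linear_combination h4 + (g.2 + t 4 + s 4) * h20)
    exact fin (σ * (p⁻¹ * u * p) * σ⁻¹) (isConj_iff.2 ⟨σ * p⁻¹, by group⟩) (F.swap_D s1 s2 hpD)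
      (F.side_of_swap s1 s2 hpB)

end Fr

end Cfsg.Agent.CoType
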