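/-
Three classes of involutions in a group of Conway type (helper22).
-/
import Cfsg.Agent.Lib.CoType.Plane

set_option autoImplicit false

namespace Cfsg.Agent.CoType

open Cfsg.Agent.Orth Cfsg.Agent.LargeExtraspecial

variable {G : Type*} [Group G]

/-- Every element of order two commutes with a conjugate of `z`. -/
theorem Co.exists_conj_comm [Finite G] (T : Co G) {x : G} (hx : orderOf x = 2) :
    ∃ g : G, g * x * g⁻¹ * T.z = T.z * (g * x * g⁻¹) := by
  haveI : Fact (Nat.Prime 2) := ⟨Nat.prime_two⟩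
  obtain ⟨S, hS⟩ := (IsPGroup.of_card T.card_Q).exists_le_sylow
  haveI : Nontrivial S :=
    ⟨⟨⟨T.z, hS T.data.z_mem⟩, 1, fun h => T.z_ne (by simpa using congrArg Subtype.val h)⟩⟩
  obtain ⟨w, hw, hw1⟩ := (Subgroup.center (S : Subgroup G)).nontrivial_iff_exists_ne_one.mp
    S.2.center_nontrivial
  have hzS : ∀ s ∈ (S : Subgroup G), s * T.z = T.z * s := by
    rcases T.data.cent (w : G) (fun q hq =>
      congrArg Subtype.val (Subgroup.mem_center_iff.mp hw ⟨q, hS hq⟩)) with e | e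
    · exact absurd (Subtype.ext e) hw1
    · intro s hs
      rw [← e]
      exact congrArg Subtype.val (Subgroup.mem_center_iff.mp hw ⟨s, hs⟩)
  have hp : IsPGroup 2 (Subgroup.zpowers x) := IsPGroup.of_card (n := 1) (by
    rw [Nat.card_zpowers, hx, pow_one])
  obtain ⟨S', hS'⟩ := hp.exists_le_sylow
  obtain ⟨g, hg⟩ := MulAction.exists_smul_eq G S' S
  refine ⟨g, hzS _ ?_⟩
  rw [← hg]
  exact ⟨x, hS' (Subgroup.mem_zpowers x), rfl⟩

theorem three_classes [Finite G] (T : Co G) :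
    ∃ a b c : G, orderOf a = 2 ∧ orderOf b = 2 ∧ orderOf c = 2 ∧ ¬ IsConj a b ∧ ¬ IsConj a c ∧
      ¬ IsConj b c ∧ ∀ x : G, orderOf x = 2 → IsConj x a ∨ IsConj x b ∨ IsConj x c := by
  obtain ⟨T', -, h, hQ, hc⟩ := T.exists_normalised
  let F : Fr G := ⟨T', h, hQ, hc⟩
  obtain ⟨u, hu⟩ := F.exists_typ A0 W0
  obtain ⟨w, hw⟩ := F.exists_typ E0 E2
  obtain ⟨hu2, huQ, -⟩ := F.typ_inv pairB hu
  obtain ⟨hw2, hwQ, -⟩ := F.typ_inv pairC hw
  refine ⟨F.z, u, w, orderOf_eq_prime (by rw [sq]; exact F.z_sq) F.z_ne,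
    orderOf_eq_prime (by rw [sq]; exact hu2) (fun e => huQ (e ▸ one_mem _)),
    orderOf_eq_prime (by rw [sq]; exact hw2) (fun e => hwQ (e ▸ one_mem _)),
    F.typ_not_conj pairB fixedB hu, F.typ_not_conj pairC fixedC hw, F.typ_B_not_C hu hw,
    fun x hx => ?_⟩
  have hx2 : x * x = 1 := by rw [← sq, ← hx, pow_orderOf_eq_one]
  have hx1 : x ≠ 1 := fun e => by simp [e] at hx
  obtain ⟨g, hg⟩ := T'.exists_conj_comm hx
  have known : ∀ y : G, IsConj x y → y ∈ F.Q ∨ F.Known y →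
      IsConj x F.z ∨ IsConj x u ∨ IsConj x w := by
    intro y hy hk
    have hy2 : y * y = 1 := by
      obtain ⟨c, rfl⟩ := isConj_iff.1 hy
      exact conj_invol hx2
    have hy1 : y ≠ 1 := fun e => by
      obtain ⟨c, hc⟩ := isConj_iff.1 hy
      exact hx1 (conj_eq_one_iff.mp (hc.trans e))
    rcases hk with h' | h' | h' | h'
    · exact Or.inl (hy.trans (F.inQ_conj h' hy2 hy1))
    · exact Or.inl (hy.trans (F.inP_conj h' hy2 hy1))
    · obtain ⟨k, -, hk⟩ := F.typ_conj pairB h' hu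
      exact Or.inr (Or.inl (hy.trans (isConj_iff.2 ⟨k, hk⟩)))
    · obtain ⟨k, -, hk⟩ := F.typ_conj pairC h' hw
      exact Or.inr (Or.inr (hy.trans (isConj_iff.2 ⟨k, hk⟩)))
  have hgx : IsConj x (g * x * g⁻¹) := isConj_iff.2 ⟨g, rfl⟩
  by_cases hQ' : g * x * g⁻¹ ∈ F.Q
  · exact known _ hgx (Or.inl hQ')
  obtain ⟨k, hk, hK | ⟨hD, hL⟩⟩ := F.classify hg (conj_invol hx2) hQ'
  · exact known _ (hgx.trans (isConj_iff.2 ⟨k, rfl⟩)) (Or.inr hK)
  · obtain ⟨y, hy, -, hyk⟩ := F.reduce hD (conj_invol (conj_invol hx2)) hL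
    exact known y ((hgx.trans (isConj_iff.2 ⟨k, rfl⟩)).trans hy) hyk

end Cfsg.Agent.CoType
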